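import Cfsg.Agent.Chev.CharTwoInvol.Bits
import Cfsg.Agent.Chev.BorelTits.Closed
import Cfsg.Agent.Chev.SL2Hom

/-!
# Characteristic two: words in the fundamental reflections, pairings and commuting root elements
-/

set_option autoImplicit false

namespace CfsgLib.Chev.CharTwoInvol

open Cfsg.Lie Matrix CfsgLib.Chev

universe u

/-- A word in the fundamental reflections applied to a root, on the tables. -/
noncomputable def wAct (T : Tbl) (L : List ℕ) (r : ℕ) : ℕ := L.foldr (fun q r => T.piAt q r) r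

/-- The pairing of the root `r` with the coroot of the root `s`, on the tables. -/
noncomputable def prT (T : Tbl) (r s : ℕ) : ℤ :=
  ((List.range T.l).map fun i => T.corAt s i * T.carAt i r).sum

/-- The root elements of `r` and `s` commute in characteristic two. -/
noncomputable def commEven (T : Tbl) (r s : ℕ) : Bool :=
  Nat.beq s r || (!Nat.beq s (T.negAt r) && (T.terms r s).all fun c => decide (c.2.1 % 2 = 0))

/-- The positive roots orthogonal to the roots of a list. -/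
noncomputable def psi (T : Tbl) (Ss : List ℕ) (r : ℕ) : Bool :=
  Nat.ble (T.n / 2) r && Nat.blt r T.n && Ss.all fun s => decide (prT T r s = 0)

variable {D : ChevalleyDatum} {T : Tbl} (hV : T.Valid D) {F : Type u} [Field F]

include hV

theorem lt_rank {q : ℕ} (hq : q < T.l) : q < D.rank := hV.linked.rank.symm ▸ hq

theorem lt_nroots {r : ℕ} (hr : r < T.n) : r < D.nroots := hV.linked.nroots.symm ▸ hr

theorem simple_eq (q : ℕ) : D.simple q = T.simpleAt q := Tbl.simpled hV.linked q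

theorem half_eq : D.nroots / 2 = T.n / 2 := by rw [hV.linked.nroots]

theorem neg_eq_negAt {r : ℕ} (hr : r < T.n) : D.neg r = T.negAt r := Tbl.negd hV.linked hr

theorem piAt_lt {q r : ℕ} (hq : q < T.l) (hr : r < T.n) : T.piAt q r < T.n := hV.hP.lt q hq r hr

theorem wAct_lt {L : List ℕ} (hL : ∀ q ∈ L, q < T.l) {r : ℕ} (hr : r < T.n) : wAct T L r < T.n := by
  induction L with
  | nil => exact hr
  | cons q L ih => exact piAt_lt hV (hL q (by simp)) (ih fun x hx => hL x (by simp [hx]))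

theorem wAct_neg {L : List ℕ} (hL : ∀ q ∈ L, q < T.l) {r : ℕ} (hr : r < T.n) :
    wAct T L (D.neg r) = D.neg (wAct T L r) := by
  induction L with
  | nil => rfl
  | cons q L ih =>
    have ih' := ih fun x hx => hL x (by simp [hx])
    have hq := hL q (by simp)
    show T.piAt q (wAct T L (D.neg r)) = D.neg (T.piAt q (wAct T L r))
    rw [ih']
    exact (Tbl.Valid.toSys.{0} hV).pi_neg q (lt_rank hV hq) _ (lt_nroots hV (wAct_lt hV (fun x hx => hL x (by simp [hx])) hr))

/-- A linear combination of roots is carried to the same combination of the images. -/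
theorem vec_wAct {L : List ℕ} (hL : ∀ q ∈ L, q < T.l) {r s v : ℕ} (hr : r < T.n) (hs : s < T.n)
    (hv : v < T.n) {i j : ℤ}
    (h : ∀ a < D.rank, (Tbl.Valid.toSys.{u} hV).vec v a = i * (Tbl.Valid.toSys.{u} hV).vec r a + j * (Tbl.Valid.toSys.{u} hV).vec s a) :
    ∀ a < D.rank, (Tbl.Valid.toSys.{u} hV).vec (wAct T L v) a =
      i * (Tbl.Valid.toSys.{u} hV).vec (wAct T L r) a + j * (Tbl.Valid.toSys.{u} hV).vec (wAct T L s) a := by
  induction L with
  | nil => exact h
  | cons q L ih =>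
    intro a ha
    have hL' : ∀ x ∈ L, x < T.l := fun x hx => hL x (by simp [hx])
    have hq := lt_rank hV (hL q (by simp))
    have ih' := ih hL'
    have h1 := lt_nroots hV (wAct_lt hV hL' hr)
    have h2 := lt_nroots hV (wAct_lt hV hL' hs)
    have h3 := lt_nroots hV (wAct_lt hV hL' hv)
    show (Tbl.Valid.toSys.{u} hV).vec ((Tbl.Valid.toSys.{u} hV).pi q (wAct T L v)) a = i * (Tbl.Valid.toSys.{u} hV).vec ((Tbl.Valid.toSys.{u} hV).pi q (wAct T L r)) a +
      j * (Tbl.Valid.toSys.{u} hV).vec ((Tbl.Valid.toSys.{u} hV).pi q (wAct T L s)) a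
    rw [(Tbl.Valid.toSys.{u} hV).vec_pi q hq _ h3 a ha, (Tbl.Valid.toSys.{u} hV).vec_pi q hq _ h1 a ha, (Tbl.Valid.toSys.{u} hV).vec_pi q hq _ h2 a ha,
      ih' a ha]
    have hc : D.cartan q (wAct T L v) = i * D.cartan q (wAct T L r) + j * D.cartan q (wAct T L s) := by
      rw [(Tbl.Valid.toSys.{u} hV).cartan_vec q hq _ h3, (Tbl.Valid.toSys.{u} hV).cartan_vec q hq _ h1, (Tbl.Valid.toSys.{u} hV).cartan_vec q hq _ h2,
        Finset.mul_sum, Finset.mul_sum, ← Finset.sum_add_distrib]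
      exact Finset.sum_congr rfl fun b hb => by rw [ih' b (Finset.mem_range.1 hb)]; ring
    split_ifs
    · rw [hc]; ring
    · ring

theorem prT_eq {r s : ℕ} (hr : r < T.n) (hs : s < T.n) :
    prT T r s = ∑ k ∈ Finset.range D.rank, cor D s k * D.cartan k r := by
  rw [prT, sum_range_list, hV.linked.rank]
  exact Finset.sum_congr rfl fun k hk => by
    rw [Tbl.cord hV.linked hs, hV.cart (Finset.mem_range.1 hk) hr]

/-- The pairing is linear in the root. -/
theorem prT_linear {r s v c : ℕ} (hr : r < T.n) (hs : s < T.n) (hv : v < T.n) (hc : c < T.n) {i j : ℤ}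
    (h : ∀ a < D.rank, (Tbl.Valid.toSys.{u} hV).vec v a = i * (Tbl.Valid.toSys.{u} hV).vec r a + j * (Tbl.Valid.toSys.{u} hV).vec s a) :
    prT T v c = i * prT T r c + j * prT T s c := by
  rw [prT_eq hV hv hc, prT_eq hV hr hc, prT_eq hV hs hc, Finset.mul_sum, Finset.mul_sum,
    ← Finset.sum_add_distrib]
  refine Finset.sum_congr rfl fun k hk => ?_
  have hk' := Finset.mem_range.1 hk
  rw [(Tbl.Valid.toSys.{u} hV).cartan_vec k hk' _ (lt_nroots hV hv), (Tbl.Valid.toSys.{u} hV).cartan_vec k hk' _ (lt_nroots hV hr),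
    (Tbl.Valid.toSys.{u} hV).cartan_vec k hk' _ (lt_nroots hV hs), Finset.mul_sum, Finset.mul_sum, Finset.mul_sum,
    Finset.mul_sum, Finset.mul_sum, ← Finset.sum_add_distrib]
  exact Finset.sum_congr rfl fun b hb => by rw [h b (Finset.mem_range.1 hb)]; ring

/-- The orthogonal of a list of roots is closed. -/
theorem psi_closed {Ss : List ℕ} (hS : ∀ s ∈ Ss, s < T.n) :
    (Tbl.Valid.toSys.{u} hV).IsClosedRootSet (fun r => psi T Ss r = true) := by
  intro r s v hr hr2 hs hs2 hv hv2 h1 h2 h3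
  obtain ⟨i, j, -, -, hvec⟩ := h3
  have hn : D.nroots = T.n := hV.linked.nroots
  simp only [psi, Bool.and_eq_true, List.all_eq_true, decide_eq_true_eq] at h1 h2 ⊢
  refine ⟨⟨Nat.ble_eq_true_of_le (half_eq hV ▸ hv), Nat.ble_eq_true_of_le (hn ▸ hv2 : v < T.n)⟩, fun c hc => ?_⟩
  rw [prT_linear hV (hn ▸ hr2) (hn ▸ hs2) (hn ▸ hv2) (hS c hc) hvec, h1.2 c hc, h2.2 c hc]
  ring

theorem psi_pos {Ss : List ℕ} {r : ℕ} (h : psi T Ss r = true) :
    D.nroots / 2 ≤ r ∧ r < D.nroots ∧ r < T.n := by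
  simp only [psi, Bool.and_eq_true] at h
  have h1 : T.n / 2 ≤ r := Nat.le_of_ble_eq_true h.1.1
  have h2 : r < T.n := Nat.le_of_ble_eq_true h.1.2
  exact ⟨half_eq hV ▸ h1, lt_nroots hV h2, h2⟩

variable [CharP F 2]

omit hV in
theorem cast_unit_eq_one {e : ℤ} (h : e = 1 ∨ e = -1) : (e : F) = 1 := by
  rcases h with rfl | rfl <;> simp [CharTwo.neg_eq]

theorem nU_xU {q : ℕ} (hq : q < T.l) {s : ℕ} (hs : s < T.n) (t : F) :
    (Tbl.Valid.toSys.{u} hV).nU (D.simple q) 1 * (Tbl.Valid.toSys.{u} hV).xU s t * ((Tbl.Valid.toSys.{u} hV).nU (D.simple q) 1)⁻¹ = (Tbl.Valid.toSys.{u} hV).xU (T.piAt q s) t := by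
  rw [(Tbl.Valid.toSys.{u} hV).nU_conj_xU (lt_rank hV hq) (lt_nroots hV hs),
    cast_unit_eq_one ((Tbl.Valid.toSys.{u} hV).eta_unit q (lt_rank hV hq) s (lt_nroots hV hs)), one_mul]
  rfl

theorem nw_xU {L : List ℕ} (hL : ∀ q ∈ L, q < T.l) {r : ℕ} (hr : r < T.n) (t : F) :
    (Tbl.Valid.toSys.{u} hV).nw F L * (Tbl.Valid.toSys.{u} hV).xU r t * ((Tbl.Valid.toSys.{u} hV).nw F L)⁻¹ = (Tbl.Valid.toSys.{u} hV).xU (wAct T L r) t := by
  induction L with
  | nil => simp [wAct]
  | cons q L ih =>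
    have hL' : ∀ x ∈ L, x < T.l := fun x hx => hL x (by simp [hx])
    rw [Sys.nw_cons, show wAct T (q :: L) r = T.piAt q (wAct T L r) from rfl,
      ← nU_xU hV (hL q (by simp)) (wAct_lt hV hL' hr) t, ← ih hL']
    group

theorem nU_self_inv {q : ℕ} (hq : q < T.l) :
    ((Tbl.Valid.toSys.{u} hV).nU (D.simple q) (1 : F))⁻¹ = (Tbl.Valid.toSys.{u} hV).nU (D.simple q) 1 := by
  rw [← (Tbl.Valid.toSys.{u} hV).nU_neg, CharTwo.neg_eq]

theorem nw_reverse {L : List ℕ} (hL : ∀ q ∈ L, q < T.l) :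
    ((Tbl.Valid.toSys.{u} hV).nw F L)⁻¹ = (Tbl.Valid.toSys.{u} hV).nw F L.reverse := by
  induction L with
  | nil => simp
  | cons q L ih =>
    rw [Sys.nw_cons, _root_.mul_inv_rev, ih (fun x hx => hL x (by simp [hx])),
      nU_self_inv hV (hL q (by simp)), List.reverse_cons, Sys.nw_append, Sys.nw_cons, Sys.nw_nil,
      mul_one]

theorem nw_group (L : List ℕ) : (Tbl.Valid.toSys.{u} hV).nw F L ∈ D.group F := by
  induction L with
  | nil => exact one_mem _
  | cons q L ih =>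
    rw [Sys.nw_cons, Sys.nU_eq]
    exact mul_mem (mul_mem (mul_mem ((Tbl.Valid.toSys.{u} hV).xU_mem_group _ _) ((Tbl.Valid.toSys.{u} hV).xU_mem_group _ _))
      ((Tbl.Valid.toSys.{u} hV).xU_mem_group _ _)) ih

/-- The palindromic word of a reflection gives `n_r(1)`. -/
theorem nw_palindrome {K : List ℕ} (hK : ∀ q ∈ K, q < T.l) {q : ℕ} (hq : q < T.l) :
    (Tbl.Valid.toSys.{u} hV).nw F (K ++ [q] ++ K.reverse) = (Tbl.Valid.toSys.{u} hV).nU (wAct T K (T.simpleAt q)) 1 := by
  rw [Sys.nw_append, Sys.nw_append, Sys.nw_cons, Sys.nw_nil, mul_one, ← nw_reverse hV hK, simple_eq hV]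
  have hs : T.simpleAt q < T.n := hV.simple_lt hq
  rw [Sys.nU_eq, Sys.nU_eq, ← nw_xU hV hK hs (1 : F),
    ← wAct_neg hV hK hs, ← nw_xU hV hK (by rw [neg_eq_negAt hV hs]; exact hV.negAt_lt hs)]
  group

/-- Commuting root elements. -/
theorem commute_xU {r s : ℕ} (hr : r < T.n) (hs : s < T.n) (h : commEven T r s = true) (t v : F) :
    Commute ((Tbl.Valid.toSys.{u} hV).xU r t) ((Tbl.Valid.toSys.{u} hV).xU s v) := by
  by_cases hrs : s = r
  · subst hrs
    rw [commute_iff_eq, Sys.xU_add, Sys.xU_add, add_comm]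
  rw [commEven, Bool.or_eq_true, Bool.and_eq_true, Bool.not_eq_true', List.all_eq_true] at h
  obtain ⟨hne, hev⟩ := h.resolve_left fun e => hrs (Nat.eq_of_beq_eq_true e)
  have hne' : s ≠ D.neg r := by
    rw [neg_eq_negAt hV hr]
    intro e
    rw [e, show Nat.beq (T.negAt r) (T.negAt r) = true from Nat.beq_refl _] at hne
    exact absurd hne (by decide)
  have hw : (Tbl.Valid.toSys.{u} hV).wU (D.commWord F r s t v) = 1 := by
    rw [Sys.wU]
    refine List.prod_eq_one fun x hx => ?_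
    obtain ⟨p, hp, rfl⟩ := List.mem_map.1 hx
    simp only [ChevalleyDatum.commWord, List.mem_map] at hp
    obtain ⟨c, hc, rfl⟩ := hp
    rw [hV.commTermsd hr hs] at hc
    have : c.2.1 % 2 = 0 := of_decide_eq_true (hev c hc)
    simp [intCast_mod_two (F := F) c.2.1, this]
  have e := (Tbl.Valid.toSys.{u} hV).comm_wU (lt_nroots hV hr) (lt_nroots hV hs) hrs hne' t v
  rw [hw, mul_one] at e
  exact e.symm

end CfsgLib.Chev.CharTwoInvol
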