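import Cfsg.Agent.Chev.Special.Iso
import Cfsg.Agent.Chev.SoundSys
import Cfsg.Agent.Chev.Bruhat

/-!
# Root elements with parameter one in characteristic two, on bit vectors

Products of elements `x_r(1)` are computed modulo two on sparse vectors; the rank of `(g - 1) P`, `P` the
projection onto an invariant set of basis vectors, is certified by a reduced basis of the column space.
-/

set_option autoImplicit false

namespace CfsgLib.Chev.CharTwoInvol

open Cfsg.Lie Matrix CfsgLib.Chev CfsgLib.Chev.Special

universe u

/-- The rows of the odd entries of the column `j` of `x_r(1)`. -/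
noncomputable def oddRows (T : Tbl) (r j : ℕ) : List ℕ :=
  ((T.colTerms r j).filter fun c => decide (c.2.1 % 2 ≠ 0)).map Prod.fst

/-- Toggle an index. -/
def togIdx (x : ℕ) : List ℕ → List ℕ
  | [] => [x]
  | y :: L => cond (Nat.beq x y) L (y :: togIdx x L)

/-- Apply `x_r(1)`. -/
noncomputable def applRows (T : Tbl) (r : ℕ) (L : List ℕ) : List ℕ :=
  L.foldr (fun j acc => (oddRows T r j).foldr togIdx acc) []

/-- Apply a word. -/
noncomputable def runRows (T : Tbl) (w L : List ℕ) : List ℕ := w.foldr (applRows T) L

/-- The bit vector of a list of indices. -/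
def bitsOf (L : List ℕ) : ℕ := L.foldr (fun x m => Nat.xor (2 ^ x) m) 0

/-- The masked column `j` of the word minus one. -/
noncomputable def colm (T : Tbl) (mask : ℕ) (w : List ℕ) (j : ℕ) : ℕ :=
  cond (mask.testBit j) (Nat.xor (bitsOf (runRows T w [j])) (2 ^ j)) 0

/-- The check that two words give the same matrix. -/
noncomputable def sameBits (T : Tbl) (w w' : List ℕ) : Bool :=
  w.all (fun r => Nat.blt r T.n) && w'.all (fun r => Nat.blt r T.n) &&
  (List.range (T.l + T.n)).all fun j =>
    Nat.beq (bitsOf (runRows T w [j])) (bitsOf (runRows T w' [j]))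

/-- The sum of the basis vectors whose pivot occurs in `m`. -/
def xorSel (bs : List (ℕ × ℕ × List ℕ)) (m : ℕ) : ℕ :=
  bs.foldr (fun b a => cond (m.testBit b.2.1) (Nat.xor b.1 a) a) 0

/-- The check of a basis of the masked column space: entries `(vector, pivot, columns summing to it)`. -/
noncomputable def rankOK (T : Tbl) (mask : ℕ) (w : List ℕ) (bs : List (ℕ × ℕ × List ℕ)) : Bool :=
  w.all (fun r => Nat.blt r T.n) &&
  ((List.range bs.length).all fun i =>
    let b := bs.getD i (0, 0, [])
    Nat.blt b.2.1 (T.l + T.n) && b.2.2.all (fun j => Nat.blt j (T.l + T.n)) &&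
      Nat.beq (b.2.2.foldr (fun j a => Nat.xor (colm T mask w j) a) 0) b.1 &&
      (List.range bs.length).all fun k => b.1.testBit (bs.getD k (0, 0, [])).2.1 == Nat.beq i k) &&
  (List.range (T.l + T.n)).all fun j => Nat.beq (colm T mask w j) (xorSel bs (colm T mask w j))

/-- The check that the masked basis vectors span an invariant subspace. -/
noncomputable def maskOK (T : Tbl) (mask : ℕ) : Bool :=
  ((List.range (T.l + T.n)).all fun j => mask.testBit j) ||
  ((List.range T.n).all fun r => (List.range (T.l + T.n)).all fun j => !mask.testBit j ||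
    (T.colTerms r j).all fun c => mask.testBit c.1 || decide (c.2.1 % 2 = 0))

section
variable {D : ChevalleyDatum} {F : Type u} [Field F]

/-- The vector of a bit vector. -/
def bitVec (D : ChevalleyDatum) (F : Type u) [Field F] (m : ℕ) : D.Idx → F :=
  fun c => if m.testBit (code D c) then 1 else 0

/-- The projection onto the masked coordinates. -/
def maskMat (D : ChevalleyDatum) (F : Type u) [Field F] (mask : ℕ) : Matrix D.Idx D.Idx F :=
  Matrix.diagonal (bitVec D F mask)

theorem bitVec_zero : bitVec D F 0 = 0 := by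
  funext c; simp [bitVec]

theorem bitVec_two_pow (j : ℕ) : bitVec D F (2 ^ j) = bas D.rank D F j := by
  funext c
  rw [bitVec, bas_apply, Nat.testBit_two_pow]
  simp

variable [CharP F 2]

theorem bitVec_xor (a b : ℕ) : bitVec D F (Nat.xor a b) = bitVec D F a + bitVec D F b := by
  funext c
  show (if (a ^^^ b).testBit (code D c) then (1 : F) else 0) = _
  rw [Nat.testBit_xor, Pi.add_apply, bitVec, bitVec]
  cases a.testBit (code D c) <;> cases b.testBit (code D c) <;> simp [CharTwo.add_self_eq_zero]

theorem bitVec_bitsOf (L : List ℕ) : bitVec D F (bitsOf L) = (L.map (bas D.rank D F)).sum := by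
  induction L with
  | nil => exact bitVec_zero
  | cons x L ih =>
    rw [show bitsOf (x :: L) = Nat.xor (2 ^ x) (bitsOf L) from rfl, bitVec_xor, ih, bitVec_two_pow,
      List.map_cons, List.sum_cons]

theorem sum_tog (x : ℕ) (L : List ℕ) : ((togIdx x L).map (bas D.rank D F)).sum =
    bas D.rank D F x + (L.map (bas D.rank D F)).sum := by
  induction L with
  | nil => simp [togIdx]
  | cons y L ih =>
    simp only [togIdx]
    by_cases h : x = y
    · subst h
      rw [show Nat.beq x x = true from Nat.beq_refl x, cond_true, List.map_cons, List.sum_cons, ← add_assoc]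
      funext c
      simp [CharTwo.add_self_eq_zero]
    · have : Nat.beq x y = false := by
        rw [← Bool.not_eq_true]; exact fun e => h (Nat.eq_of_beq_eq_true e)
      rw [this, cond_false, List.map_cons, List.sum_cons, ih, List.map_cons, List.sum_cons,
        add_left_comm]

theorem sum_togs (A L : List ℕ) : ((A.foldr togIdx L).map (bas D.rank D F)).sum =
    (A.map (bas D.rank D F)).sum + (L.map (bas D.rank D F)).sum := by
  induction A with
  | nil => simp
  | cons x A ih => rw [List.foldr_cons, sum_tog, ih, List.map_cons, List.sum_cons, add_assoc]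

omit [CharP F 2] in
theorem intCast_mod_two [CharP F 2] (M : ℤ) : (M : F) = if M % 2 ≠ 0 then 1 else 0 := by
  conv_lhs => rw [← Int.mul_ediv_add_emod M 2]
  push_cast
  rw [CharTwo.two_eq_zero, zero_mul, zero_add]
  rcases Int.emod_two_eq M with h | h <;> simp [h]

end

variable {D : ChevalleyDatum} {T : Tbl} (hV : T.Valid D) {F : Type u} [Field F]

/-- The product of root elements with parameter one. -/
noncomputable def wOne (F : Type u) [Field F] (w : List ℕ) : GL D.Idx F :=
  (Tbl.Valid.toSys.{u} hV).wU (w.map fun r => (r, (1 : F)))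

theorem wOne_cons (r : ℕ) (w : List ℕ) :
    wOne hV F (r :: w) = (Tbl.Valid.toSys.{u} hV).xU r 1 * wOne hV F w := by
  simp [wOne, Sys.wU_cons]

theorem wOne_nil : wOne hV F [] = 1 := rfl

theorem wOne_append (v w : List ℕ) : wOne hV F (v ++ w) = wOne hV F v * wOne hV F w := by
  rw [wOne, List.map_append, Sys.wU_append]; rfl

variable [CharP F 2]

include hV

theorem x_one_col {r : ℕ} (hr : r < T.n) (j : ℕ) :
    D.x F r 1 *ᵥ bas D.rank D F j = ((oddRows T r j).map (bas D.rank D F)).sum := by
  have hl : D.rank = T.l := hV.linked.rank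
  simp only [show ∀ i, bas D.rank D F i = bas T.l D F i from fun i => congrArg (fun l => bas l D F i) hl,
    show (bas D.rank D F : ℕ → D.Idx → F) = bas T.l D F from congrArg (fun l => bas l D F) hl]
  rw [colTerms_sem hV.linked (Tbl.rootsP hV.roots) (Tbl.chainP hV.chain) (1 : F) hr j, oddRows]
  induction T.colTerms r j with
  | nil => rfl
  | cons c L ih =>
    rw [semC_cons, ih, one_pow, mul_one, intCast_mod_two c.2.1]
    by_cases h : c.2.1 % 2 ≠ 0
    · rw [if_pos h, one_smul, List.filter_cons_of_pos (by simpa using h), List.map_cons, List.map_cons,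
        List.sum_cons]
    · rw [if_neg h, zero_smul, zero_add, List.filter_cons_of_neg (by simpa using h)]

theorem appl_rows {r : ℕ} (hr : r < T.n) (L : List ℕ) :
    D.x F r 1 *ᵥ (L.map (bas D.rank D F)).sum = ((applRows T r L).map (bas D.rank D F)).sum := by
  induction L with
  | nil => simp [applRows]
  | cons j L ih =>
    rw [List.map_cons, List.sum_cons, Matrix.mulVec_add, ih, x_one_col hV hr]
    exact (sum_togs _ _).symm

theorem run_rows {w : List ℕ} (hw : ∀ r ∈ w, r < T.n) (j : ℕ) :
    (wOne hV F w : Matrix D.Idx D.Idx F) *ᵥ bas D.rank D F j =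
      bitVec D F (bitsOf (runRows T w [j])) := by
  rw [bitVec_bitsOf]
  induction w with
  | nil => simp [wOne_nil, runRows]
  | cons r w ih =>
    rw [wOne_cons, Units.val_mul, ← Matrix.mulVec_mulVec, ih (fun x hx => hw x (by simp [hx])),
      Sys.coe_xU, appl_rows hV (hw r (by simp))]
    rfl

/-- A checked identity of words holds in the group. -/
theorem wOne_eq_of_sameBits {w w' : List ℕ} (h : sameBits T w w' = true) :
    wOne hV F w = wOne hV F w' := by
  simp only [sameBits, Bool.and_eq_true, List.all_eq_true, List.mem_range] at h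
  obtain ⟨⟨h1, h2⟩, h3⟩ := h
  refine Units.ext (ext_bas hV.linked fun j hj => ?_)
  have hl : T.l = D.rank := hV.linked.rank.symm
  rw [hl, run_rows hV (fun r hr => Nat.le_of_ble_eq_true (h1 r hr)),
    run_rows hV (fun r hr => Nat.le_of_ble_eq_true (h2 r hr)), Nat.eq_of_beq_eq_true (h3 j hj)]

theorem colm_eq {w : List ℕ} (hw : ∀ r ∈ w, r < T.n) (mask : ℕ) (c : D.Idx) :
    (((wOne hV F w : Matrix D.Idx D.Idx F) - 1) * maskMat D F mask) *ᵥ Pi.single c 1 =
      bitVec D F (colm T mask w (code D c)) := by
  have e : maskMat D F mask *ᵥ Pi.single c 1 = bitVec D F mask c • (Pi.single c 1 : D.Idx → F) := by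
    funext a
    rw [maskMat, Matrix.mulVec_diagonal, Pi.smul_apply, smul_eq_mul]
    by_cases h : a = c
    · subst h; rfl
    · simp [Pi.single_eq_of_ne h]
  rw [← Matrix.mulVec_mulVec, e, Matrix.mulVec_smul, Matrix.sub_mulVec, Matrix.one_mulVec, ← bas_code,
    run_rows hV hw, colm]
  cases h : mask.testBit (code D c)
  · simp [bitVec, h, bitVec_zero]
  · rw [cond_true, bitVec_xor, bitVec_two_pow]
    funext a
    simp [bitVec, h, CharTwo.sub_eq_add]

theorem exists_code_eq {k : ℕ} (hk : k < T.l + T.n) : ∃ c : D.Idx, code D c = k := by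
  have hl : D.rank = T.l := hV.linked.rank
  have hn : D.nroots = T.n := hV.linked.nroots
  by_cases h : k < D.rank
  · exact ⟨Sum.inl ⟨k, h⟩, rfl⟩
  · exact ⟨Sum.inr ⟨k - D.rank, by omega⟩, show D.rank + (k - D.rank) = k by omega⟩

/-- The certified rank. -/
theorem rank_of_rankOK {w : List ℕ} {mask : ℕ} {bs : List (ℕ × ℕ × List ℕ)}
    (h : rankOK T mask w bs = true) :
    (((wOne hV F w : Matrix D.Idx D.Idx F) - 1) * maskMat D F mask).rank = bs.length := by
  simp only [rankOK, Bool.and_eq_true, List.all_eq_true, List.mem_range] at h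
  obtain ⟨⟨h0, h1⟩, h2⟩ := h
  have hw : ∀ r ∈ w, r < T.n := fun r hr => Nat.le_of_ble_eq_true (h0 r hr)
  set M := ((wOne hV F w : Matrix D.Idx D.Idx F) - 1) * maskMat D F mask with hM
  let v : Fin bs.length → D.Idx → F := fun i => bitVec D F (bs.getD i (0, 0, [])).1
  have hcol : ∀ j < T.l + T.n, bitVec D F (colm T mask w j) ∈ LinearMap.range M.mulVecLin := by
    intro j hj
    obtain ⟨c, rfl⟩ := exists_code_eq hV hj
    exact ⟨Pi.single c 1, colm_eq hV hw mask c⟩
  have hv : ∀ i, v i ∈ LinearMap.range M.mulVecLin := by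
    intro i
    obtain ⟨⟨⟨-, hj⟩, he⟩, -⟩ := h1 i i.2
    simp only [v]
    rw [← Nat.eq_of_beq_eq_true he]
    generalize (bs.getD i (0, 0, [])).2.2 = L at hj
    induction L with
    | nil => simp [bitVec_zero]
    | cons j L ih =>
      rw [List.foldr_cons, bitVec_xor]
      exact add_mem (hcol j (Nat.le_of_ble_eq_true (hj j (by simp))))
        (ih fun x hx => hj x (by simp [hx]))
  have hsel : ∀ m, bitVec D F (xorSel bs m) ∈ Submodule.span F (Set.range v) := by
    intro m
    have : ∀ L : List (ℕ × ℕ × List ℕ), (∀ b ∈ L, bitVec D F b.1 ∈ Submodule.span F (Set.range v)) →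
        bitVec D F (xorSel L m) ∈ Submodule.span F (Set.range v) := by
      intro L
      induction L with
      | nil => intro _; simp [xorSel, bitVec_zero]
      | cons b L ih =>
        intro hL
        have ih' := ih fun x hx => hL x (by simp [hx])
        show bitVec D F (cond (m.testBit b.2.1) (Nat.xor b.1 (xorSel L m)) (xorSel L m)) ∈ _
        cases m.testBit b.2.1
        · exact ih'
        · rw [cond_true, bitVec_xor]
          exact add_mem (hL b (by simp)) ih'
    refine this bs fun b hb => ?_
    obtain ⟨i, hi, rfl⟩ := List.getElem_of_mem hb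
    exact Submodule.subset_span ⟨⟨i, hi⟩, by simp [v, List.getD_eq_getElem?_getD, hi]⟩
  have hrange : LinearMap.range M.mulVecLin = Submodule.span F (Set.range v) := by
    apply le_antisymm
    · rw [Matrix.range_mulVecLin, Submodule.span_le]
      rintro _ ⟨c, rfl⟩
      have hc : code D c < T.l + T.n := hV.linked.rank ▸ hV.linked.nroots ▸ code_lt c
      have e : M.col c = M *ᵥ Pi.single c 1 := by
        funext a
        rw [mulVec_single_col]
        rfl
      rw [e, colm_eq hV hw, Nat.eq_of_beq_eq_true (h2 _ hc)]
      exact hsel _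
    · rw [Submodule.span_le]
      rintro _ ⟨i, rfl⟩
      exact hv i
  have hli : LinearIndependent F v := by
    rw [Fintype.linearIndependent_iff]
    intro g hg k
    obtain ⟨⟨⟨hp, -⟩, -⟩, -⟩ := h1 k k.2
    obtain ⟨c, hc⟩ := exists_code_eq hV (D := D) (Nat.le_of_ble_eq_true hp)
    have e := congrFun hg c
    rw [Finset.sum_apply, Finset.sum_eq_single k] at e
    · obtain ⟨-, hk⟩ := h1 k k.2
      have := beq_iff_eq.1 (hk k k.2)
      rw [show Nat.beq (k : ℕ) k = true from Nat.beq_refl _, ← hc] at this
      simp only [v, bitVec, Pi.smul_apply, smul_eq_mul, this, if_true, mul_one, Pi.zero_apply] at e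
      exact e
    · intro i _ hik
      obtain ⟨-, hi⟩ := h1 i i.2
      have := beq_iff_eq.1 (hi k k.2)
      rw [show Nat.beq (i : ℕ) k = false by
        rw [← Bool.not_eq_true]; exact fun e => hik (Fin.ext (Nat.eq_of_beq_eq_true e)), ← hc] at this
      simp only [v, bitVec, Pi.smul_apply, smul_eq_mul, this, Bool.false_eq_true, if_false, mul_zero]
    · simp
  rw [Matrix.rank, hrange, finrank_span_eq_card hli, Fintype.card_fin]

/-- The masked projection commutes with the group on its image. -/
theorem mask_group {mask : ℕ} (h : maskOK T mask = true) {g : GL D.Idx F} (hg : g ∈ D.group F) :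
    (g : Matrix D.Idx D.Idx F) * maskMat D F mask =
      maskMat D F mask * (g : Matrix D.Idx D.Idx F) * maskMat D F mask := by
  set P := maskMat D F mask with hP
  rw [maskOK, Bool.or_eq_true] at h
  rcases h with h | h
  · have : P = 1 := by
      rw [hP, maskMat, ← Matrix.diagonal_one]
      congr 1
      funext c
      have hc : code D c < T.l + T.n := hV.linked.rank ▸ hV.linked.nroots ▸ code_lt c
      simp [bitVec, List.all_eq_true.1 h _ (List.mem_range.2 hc)]
    rw [this, one_mul]
  · simp only [List.all_eq_true, List.mem_range, Bool.or_eq_true, Bool.not_eq_true',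
      decide_eq_true_eq] at h
    have hPP : P * P = P := by
      rw [hP, maskMat, Matrix.diagonal_mul_diagonal]
      congr 1
      funext c
      by_cases hb : mask.testBit (code D c) <;> simp [bitVec, hb]
    have gen : ∀ r, ∀ t : F, D.x F r t * P = P * D.x F r t * P := by
      intro r t
      by_cases hr : r < T.n
      swap
      · rw [show D.x F r t = 1 from dif_neg fun e => hr (hV.linked.nroots ▸ e), one_mul, mul_one, hPP]
      refine ext_bas hV.linked fun j hj => ?_
      obtain ⟨c, hc⟩ := exists_code_eq hV (D := D) hj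
      have hb : bas T.l D F j = (Pi.single c 1 : D.Idx → F) := by
        rw [← hV.linked.rank, ← hc, bas_code]
      rw [hb]
      have eP : P *ᵥ (Pi.single c 1 : D.Idx → F) = bitVec D F mask c • (Pi.single c 1 : D.Idx → F) := by
        funext a
        rw [hP, maskMat, Matrix.mulVec_diagonal, Pi.smul_apply, smul_eq_mul]
        by_cases h : a = c
        · subst h; rfl
        · simp [Pi.single_eq_of_ne h]
      rw [mul_assoc, ← Matrix.mulVec_mulVec, ← Matrix.mulVec_mulVec, ← Matrix.mulVec_mulVec, eP,
        Matrix.mulVec_smul, Matrix.mulVec_smul]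
      by_cases hm : mask.testBit j
      · congr 1
        funext a
        rw [hP, maskMat, Matrix.mulVec_diagonal]
        by_cases ha : mask.testBit (code D a)
        · simp [bitVec, ha]
        · simp only [bitVec, ha, Bool.false_eq_true, if_false, zero_mul]
          have hs := colTerms_sem hV.linked (Tbl.rootsP hV.roots) (Tbl.chainP hV.chain) t hr j
          rw [hb] at hs
          rw [hs]
          have := (h r hr j hj).resolve_left (by simp [hm])
          generalize T.colTerms r j = L at this
          induction L with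
          | nil => rfl
          | cons x L ih =>
            rw [semC_cons, Pi.add_apply, ih fun y hy => this y (by simp [hy]), add_zero,
              Pi.smul_apply, ← hV.linked.rank, bas_apply, smul_eq_mul]
            rcases this x (by simp) with hx | hx
            · rw [if_neg (show ¬ x.1 = code D a from fun e => ha (e ▸ hx)), mul_zero]
            · rw [intCast_mod_two x.2.1, if_neg (by simp [hx]), zero_mul, zero_mul]
      · simp [bitVec, hc, hm]
    induction hg using Subgroup.closure_induction'' with
    | mem y hy =>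
      obtain ⟨r, t, e⟩ := hy
      have e' : (y : Matrix D.Idx D.Idx F) = D.x F r t := by
        rw [e, ChevalleyDatum.x, dif_pos r.2]
      rw [e']
      exact gen r t
    | inv_mem y hy =>
      obtain ⟨r, t, e⟩ := hy
      have e' : (y : Matrix D.Idx D.Idx F) = D.x F r t := by
        rw [e, ChevalleyDatum.x, dif_pos r.2]
      rw [(Tbl.Valid.toSys.{u} hV).eq_xU e', Sys.xU_inv, Sys.coe_xU]
      exact gen r (-t)
    | one => rw [Units.val_one, one_mul, mul_one, hPP]
    | mul a b _ _ ha hb =>
      rw [Units.val_mul]
      calc (a : Matrix D.Idx D.Idx F) * b * P = a * (P * b * P) := by rw [mul_assoc, hb]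
        _ = a * P * (b * P) := by simp only [mul_assoc]
        _ = P * a * P * (b * P) := by rw [ha]
        _ = P * a * (P * b * P) := by simp only [mul_assoc]
        _ = P * (a * b) * P := by rw [← hb]; simp only [mul_assoc]

/-- The masked rank of an element minus one is a class function on the group. -/
theorem rank_mask_conj {mask : ℕ} (h : maskOK T mask = true) {g y : GL D.Idx F}
    (hg : g ∈ D.group F) :
    (((g * y * g⁻¹ : GL D.Idx F) : Matrix D.Idx D.Idx F) - 1) * maskMat D F mask =
        (g : Matrix D.Idx D.Idx F) * ((((y : GL D.Idx F) : Matrix D.Idx D.Idx F) - 1) * maskMat D F mask) *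
          (((g⁻¹ : GL D.Idx F) : Matrix D.Idx D.Idx F) * maskMat D F mask) ∧
      ((((g * y * g⁻¹ : GL D.Idx F) : Matrix D.Idx D.Idx F) - 1) * maskMat D F mask).rank ≤
        (((y : Matrix D.Idx D.Idx F) - 1) * maskMat D F mask).rank := by
  have e : (((g * y * g⁻¹ : GL D.Idx F) : Matrix D.Idx D.Idx F) - 1) * maskMat D F mask =
      (g : Matrix D.Idx D.Idx F) * ((((y : GL D.Idx F) : Matrix D.Idx D.Idx F) - 1) * maskMat D F mask) *
        (((g⁻¹ : GL D.Idx F) : Matrix D.Idx D.Idx F) * maskMat D F mask) := by
    have h1 : (1 : Matrix D.Idx D.Idx F) = (g : Matrix D.Idx D.Idx F) * (g⁻¹ : GL D.Idx F) := by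
      rw [← Units.val_mul, mul_inv_cancel, Units.val_one]
    conv_lhs => rw [Units.val_mul, Units.val_mul, h1]
    have h2 := mask_group hV (F := F) h (inv_mem hg)
    conv_lhs =>
      rw [show (g : Matrix D.Idx D.Idx F) * y * (g⁻¹ : GL D.Idx F) - g * (g⁻¹ : GL D.Idx F) =
        g * ((y : Matrix D.Idx D.Idx F) - 1) * (g⁻¹ : GL D.Idx F) by
          rw [mul_sub, sub_mul, mul_one]]
      rw [mul_assoc, h2]
    simp only [mul_assoc]
  exact ⟨e, by rw [e]; exact (Matrix.rank_mul_le_left _ _).trans (Matrix.rank_mul_le_right _ _)⟩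

theorem rank_eq_of_conj {mask : ℕ} (h : maskOK T mask = true) {g y y' : GL D.Idx F}
    (hg : g ∈ D.group F) (e : g * y * g⁻¹ = y') :
    ((((y' : Matrix D.Idx D.Idx F)) - 1) * maskMat D F mask).rank =
      (((y : Matrix D.Idx D.Idx F) - 1) * maskMat D F mask).rank := by
  subst e
  refine le_antisymm (rank_mask_conj hV (y := y) h hg).2 ?_
  have e' : g⁻¹ * (g * y * g⁻¹) * g⁻¹⁻¹ = y := by group
  have := (rank_mask_conj hV (F := F) (y := g * y * g⁻¹) h (inv_mem hg)).2
  rwa [e'] at this

end CfsgLib.Chev.CharTwoInvol
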