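import Cfsg.Agent.Chev.CharTwoInvol.Main
import Cfsg.Agent.Chev.DataF4

/-! Orthogonal root sets, reductions and invariants for `F4` in characteristic two. -/

set_option autoImplicit false
set_option maxRecDepth 100000
set_option maxHeartbeats 4000000

namespace CfsgLib.Chev.CharTwoInvol.TabF4

/-- The states. -/
def states : List State := [
  ⟨[], [⟨24, [], 3, 1, []⟩,
    ⟨25, [], 2, 1, [2, 3]⟩,
    ⟨27, [], 1, 2, []⟩,
    ⟨33, [], 0, 2, [0, 1]⟩]⟩,
  ⟨[24], [⟨27, [], 1, 3, []⟩,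
    ⟨32, [2, 3, 1], 2, 4, []⟩,
    ⟨33, [], 0, 3, [0, 1]⟩]⟩,
  ⟨[27], [⟨24, [], 3, 3, []⟩,
    ⟨28, [2], 1, 5, []⟩,
    ⟨41, [0, 1], 2, 3, [0, 1, 2, 3, 1, 0]⟩]⟩,
  ⟨[24, 27], [⟨32, [2, 3, 1], 2, 6, []⟩,
    ⟨44, [0, 1, 2, 3, 1, 2, 1], 0, 7, []⟩]⟩,
  ⟨[24, 32], [⟨27, [], 1, 6, []⟩,
    ⟨43, [2, 3, 0, 1], 2, 8, []⟩]⟩,
  ⟨[27, 28], [⟨29, [3, 2], 1, 9, []⟩,
    ⟨41, [0, 1], 2, 7, [0, 1, 2, 3, 1, 0]⟩]⟩,
  ⟨[24, 27, 32], [⟨44, [0, 1, 2, 3, 1, 2, 1], 0, 10, []⟩]⟩,
  ⟨[24, 27, 44], [⟨32, [2, 3, 1], 2, 10, []⟩]⟩,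
  ⟨[24, 32, 43], [⟨45, [1, 2, 3, 0, 1], 2, 11, []⟩]⟩,
  ⟨[27, 28, 29], [⟨44, [0, 1, 2, 3, 1, 2, 1], 0, 12, []⟩]⟩,
  ⟨[24, 27, 32, 44], []⟩,
  ⟨[24, 32, 43, 45], []⟩,
  ⟨[27, 28, 29, 44], []⟩]

/-- The reductions. -/
def reds : List (List Move × ℕ) := [([], 0),
  ([.weyl [3, 2, 1, 2, 0, 1, 2] [47]], 0),
  ([.weyl [0, 1, 2, 3, 1, 2, 0] [44]], 1),
  ([.weyl [2, 1, 2, 3, 1, 2, 0, 1, 2, 0] [39, 45]], 3),
  ([.word [23, 6, 19, 24, 41] [47, 44]], 2),
  ([.word [25] [27, 30], .weyl [3, 2, 0, 1, 2, 3, 1, 2, 0] [47, 44]], 2),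
  ([.word [25, 27, 24, 25] [24, 27], .weyl [] [24, 27], .weyl [2, 1, 2, 3, 1, 2, 0, 1, 2, 0] [39, 45]], 3),
  ([.word [35, 27, 24, 35] [24, 27], .weyl [] [24, 27], .weyl [2, 1, 2, 3, 1, 2, 0, 1, 2, 0] [39, 45]], 3),
  ([.word [19, 33, 14, 28] [32, 36], .weyl [2, 0, 1, 2, 3, 1] [24, 27], .weyl [2, 1, 2, 3, 1, 2, 0, 1, 2, 0] [39, 45]], 3),
  ([.word [23, 25, 22, 24] [28, 31], .weyl [2, 1] [24, 27], .weyl [2, 1, 2, 3, 1, 2, 0, 1, 2, 0] [39, 45]], 3),
  ([.word [25, 27, 24, 25] [24, 27, 44], .weyl [] [24, 27, 44], .word [35, 27, 24, 35] [24, 27], .weyl [] [24, 27], .weyl [2, 1, 2, 3, 1, 2, 0, 1, 2, 0] [39, 45]], 3),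
  ([.word [19, 33, 14, 28] [32, 36, 45], .weyl [2, 0, 1, 2, 3, 1] [24, 27, 32], .word [25, 27, 24, 25] [24, 27], .weyl [] [24, 27], .weyl [2, 1, 2, 3, 1, 2, 0, 1, 2, 0] [39, 45]], 3),
  ([.word [23, 25, 22, 24] [28, 31, 44], .weyl [2, 1] [24, 27, 44], .word [35, 27, 24, 35] [24, 27], .weyl [] [24, 27], .weyl [2, 1, 2, 3, 1, 2, 0, 1, 2, 0] [39, 45]], 3)]

/-- The representatives. -/
def fins : List (List ℕ) := [[47], [44], [47, 44], [39, 45]]

/-- The masks. -/
def masks : List ℕ := [4503599627370495, 316536972114051]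

/-- A basis of a column space. -/
def cert0_0 : List (ℕ × ℕ × List ℕ) := [
  (2251799813685248, 51, [3]),
  (5, 0, [3, 4]),
  (268435456, 28, [5]),
  (1073741824, 30, [6]),
  (8589934592, 33, [7]),
  (34359738368, 35, [8]),
  (68719476736, 36, [9]),
  (1099511627776, 40, [11]),
  (4398046511104, 42, [12]),
  (8796093022208, 43, [13]),
  (17592186044416, 44, [15]),
  (70368744177664, 46, [19]),
  (140737488355328, 47, [20]),
  (281474976710656, 48, [22]),
  (562949953421312, 49, [25]),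
  (1125899906842624, 50, [27])]

/-- A basis of a column space. -/
def cert0_1 : List (ℕ × ℕ × List ℕ) := [
  (8589934592, 33, [7]),
  (1099511627776, 40, [11]),
  (4398046511104, 42, [12]),
  (8796093022208, 43, [13]),
  (17592186044416, 44, [15]),
  (281474976710656, 48, [22])]

/-- A basis of a column space. -/
def cert1_0 : List (ℕ × ℕ × List ℕ) := [
  (281474976710656, 48, [0]),
  (35184376283136, 22, [4]),
  (70368752566272, 23, [5]),
  (140737505132544, 24, [6]),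
  (2, 1, [0, 7]),
  (562952100904960, 31, [8]),
  (1125904201809920, 32, [9]),
  (2251808403619840, 33, [10]),
  (137438953472, 37, [11]),
  (274877906944, 38, [12]),
  (549755813888, 39, [13]),
  (1099511627776, 40, [14]),
  (2199023255552, 41, [15]),
  (4398046511104, 42, [16]),
  (8796093022208, 43, [17]),
  (17592186044416, 44, [18])]

/-- A basis of a column space. -/
def cert1_1 : List (ℕ × ℕ × List ℕ) := [
  (281474976710656, 48, [0]),
  (2, 1, [0, 7]),
  (137438953472, 37, [11]),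
  (274877906944, 38, [12]),
  (549755813888, 39, [13]),
  (1099511627776, 40, [14]),
  (2199023255552, 41, [15]),
  (4398046511104, 42, [16]),
  (8796093022208, 43, [17]),
  (17592186044416, 44, [18])]

/-- A basis of a column space. -/
def cert2_0 : List (ℕ × ℕ × List ℕ) := [
  (281474976710656, 48, [0]),
  (2251799813685248, 51, [3]),
  (35184376283141, 0, [0, 3, 4]),
  (276824064, 23, [5, 19]),
  (1090519040, 24, [6, 20]),
  (2, 1, [0, 3, 7, 10]),
  (36507222016, 31, [8, 25]),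
  (73014444032, 32, [9, 27]),
  (8589934592, 33, [3, 10]),
  (137438953472, 37, [11, 14]),
  (274877906944, 38, [12, 16]),
  (549755813888, 39, [13, 17]),
  (1099511627776, 40, [14]),
  (2199023255552, 41, [15, 18]),
  (4398046511104, 42, [16]),
  (8796093022208, 43, [17]),
  (17592186044416, 44, [18]),
  (70368744177664, 46, [19]),
  (140737488355328, 47, [20]),
  (562949953421312, 49, [25]),
  (1125899906842624, 50, [27])]

/-- A basis of a column space. -/
def cert2_1 : List (ℕ × ℕ × List ℕ) := [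
  (281474976710656, 48, [0]),
  (8589934594, 1, [0, 7]),
  (137438953472, 37, [11, 14]),
  (274877906944, 38, [12, 16]),
  (549755813888, 39, [13, 17]),
  (1099511627776, 40, [14]),
  (2199023255552, 41, [15, 18]),
  (4398046511104, 42, [16]),
  (8796093022208, 43, [17]),
  (17592186044416, 44, [18])]

/-- A basis of a column space. -/
def cert3_0 : List (ℕ × ℕ × List ℕ) := [
  (8796093022208, 43, [1]),
  (562949953421312, 49, [1, 2]),
  (570433536, 13, [4, 25]),
  (1140867072, 14, [5, 26]),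
  (1, 0, [1, 12]),
  (2147614720, 17, [7, 17]),
  (68719738880, 18, [8]),
  (17179869184, 34, [9]),
  (34359738368, 35, [10]),
  (274894684160, 24, [11, 24]),
  (8, 3, [2, 6, 12]),
  (2199023255552, 41, [13]),
  (4398046511104, 42, [14]),
  (4294967296, 32, [15]),
  (8589934592, 33, [16]),
  (17592186044416, 44, [17]),
  (140874927308800, 37, [19]),
  (35184372088832, 45, [20]),
  (70368744177664, 46, [21]),
  (549755813888, 39, [22]),
  (1099511627776, 40, [23]),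
  (281474976710656, 48, [24]),
  (1125899906842624, 50, [13, 25]),
  (2251799813685248, 51, [14, 26])]

/-- A basis of a column space. -/
def cert3_1 : List (ℕ × ℕ × List ℕ) := [
  (8796093022208, 43, [1]),
  (2147614720, 17, [7, 17]),
  (274894684160, 24, [11, 24]),
  (1, 0, [1, 12]),
  (2199023255552, 41, [13]),
  (4398046511104, 42, [14]),
  (4294967296, 32, [15]),
  (8589934592, 33, [16]),
  (17592186044416, 44, [17]),
  (549755813888, 39, [22]),
  (1099511627776, 40, [23]),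
  (281474976710656, 48, [24])]

/-- The certificates. -/
def certs : List (List (List (ℕ × ℕ × List ℕ))) := [[cert0_0, cert0_1], [cert1_0, cert1_1], [cert2_0, cert2_1], [cert3_0, cert3_1]]

end CfsgLib.Chev.CharTwoInvol.TabF4
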