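import Cfsg.Agent.Chev.CharTwoInvol.Normal
import Mathlib.GroupTheory.OrderOfElement

/-!
# The classes of involutions from a table of states, reductions and certified invariants
-/

set_option autoImplicit false

namespace CfsgLib.Chev.CharTwoInvol

open Cfsg.Lie Matrix CfsgLib.Chev

universe u

/-- The check of the representatives: they commute and their certified invariants are distinct. -/
noncomputable def finsOK (T : Tbl) (masks : List ℕ) (fins : List (List ℕ))
    (certs : List (List (List (ℕ × ℕ × List ℕ)))) : Bool :=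
  masks.all (maskOK T) &&
  (List.range fins.length).all fun i =>
    let f := fins.getD i []
    let c := certs.getD i []
    allComm T f && decide (c.length = masks.length) &&
      ((List.range masks.length).all fun m => rankOK T (masks.getD m 0) f (c.getD m [])) &&
      (c.any fun b => !Nat.beq b.length 0) &&
      (List.range i).all fun j => (List.range masks.length).any fun m =>
        !Nat.beq (c.getD m []).length ((certs.getD j []).getD m []).length

variable {D : ChevalleyDatum} {T : Tbl} (hV : T.Valid D) {F : Type u} [Field F] [CharP F 2]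

include hV

theorem chain_sound : ∀ (ms : List Move) (L : List ℕ), chainOK T ms L = true →
    ∃ h ∈ D.group F, h * wOne hV F L * h⁻¹ = wOne hV F (chainEnd ms L) := by
  intro ms
  induction ms with
  | nil => exact fun L _ => ⟨1, one_mem _, by simp [chainEnd]⟩
  | cons m ms ih =>
    intro L h
    cases m with
    | weyl w t =>
      simp only [chainOK, Bool.and_eq_true, List.all_eq_true] at h
      obtain ⟨⟨⟨⟨hw, hL⟩, hc⟩, hp⟩, hrest⟩ := h
      obtain ⟨g, hg, e⟩ := ih t hrest
      refine ⟨g * (Tbl.Valid.toSys.{u} hV).nw F w, mul_mem hg (nw_group hV _), ?_⟩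
      show _ = wOne hV F (chainEnd ms t)
      rw [← e, ← wOne_perm hV hc (List.isPerm_iff.1 hp),
        ← nw_wOne hV (fun q hq => Nat.le_of_ble_eq_true (hw q hq))
          (fun r hr => Nat.le_of_ble_eq_true (hL r hr))]
      group
    | word w t =>
      simp only [chainOK, Bool.and_eq_true] at h
      obtain ⟨g, hg, e⟩ := ih t h.2
      have e2 := wOne_eq_of_sameBits hV (F := F) h.1
      rw [wOne_append, wOne_append] at e2
      refine ⟨g * wOne hV F w, mul_mem hg (wOne_group hV _), ?_⟩
      show _ = wOne hV F (chainEnd ms t)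
      rw [← e, show g * wOne hV F w * wOne hV F L * (g * wOne hV F w)⁻¹ =
        g * (wOne hV F w * wOne hV F L * (wOne hV F w)⁻¹) * g⁻¹ by group, e2, mul_inv_cancel_right]

/-- Every involution is conjugate to one of the representatives. -/
theorem exists_rep_conj [Finite F] {sts : List State} {fins : List (List ℕ)} {red : List (List Move × ℕ)}
    (hN : normalOK T sts = true) (hR : reduceOK T sts fins red = true) {g : GL D.Idx F}
    (hg : g ∈ D.group F) (hsq : g * g = 1) (hg1 : g ≠ 1) :
    ∃ k < fins.length, ∃ h ∈ D.group F, h * g * h⁻¹ = wOne hV F (fins.getD k []) := by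
  obtain ⟨j, hj0, hjl, h, hh, e⟩ := exists_state hV hN hg hsq hg1
  simp only [reduceOK, List.all_eq_true, List.mem_range, Bool.or_eq_true, Bool.and_eq_true,
    decide_eq_true_eq] at hR
  rcases hR j hjl with h0 | ⟨⟨hc, hk⟩, hend⟩
  · have := Nat.eq_of_beq_eq_true h0
    omega
  · obtain ⟨k, hk', e'⟩ := chain_sound hV (F := F) _ _ hc
    refine ⟨_, Nat.le_of_ble_eq_true hk, k * h, mul_mem hk' hh, ?_⟩
    rw [← hend, ← e', ← e]
    group

/-- The representatives are pairwise non-conjugate involutions. -/
theorem rep_spec {masks : List ℕ} {fins : List (List ℕ)}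
    {certs : List (List (List (ℕ × ℕ × List ℕ)))} (hF : finsOK T masks fins certs = true) :
    (∀ k < fins.length, wOne hV F (fins.getD k []) * wOne hV F (fins.getD k []) = 1 ∧
        wOne hV F (fins.getD k []) ≠ 1) ∧
      ∀ i < fins.length, ∀ j < fins.length,
        (∃ h ∈ D.group F, h * wOne hV F (fins.getD i []) * h⁻¹ = wOne hV F (fins.getD j [])) → i = j := by
  simp only [finsOK, Bool.and_eq_true, List.all_eq_true, List.mem_range, decide_eq_true_eq,
    List.any_eq_true, Bool.not_eq_true'] at hF
  obtain ⟨hm, hf⟩ := hF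
  have hrank : ∀ i < fins.length, ∀ m < masks.length,
      (((wOne hV F (fins.getD i []) : Matrix D.Idx D.Idx F) - 1) * maskMat D F (masks.getD m 0)).rank =
        ((certs.getD i []).getD m []).length :=
    fun i hi m hm' => rank_of_rankOK hV ((hf i hi).1.1.2 m hm')
  have hmask : ∀ m < masks.length, maskOK T (masks.getD m 0) = true := fun m hm' => by
    refine hm _ ?_
    rw [List.getD_eq_getElem?_getD, List.getElem?_eq_getElem hm', Option.getD_some]
    exact List.getElem_mem hm'
  refine ⟨fun k hk => ⟨wOne_sq hV (hf k hk).1.1.1.1, fun e => ?_⟩, fun i hi j hj hconj => ?_⟩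
  · obtain ⟨b, hb, hne⟩ := (hf k hk).1.2
    obtain ⟨m, hm', rfl⟩ := List.getElem_of_mem hb
    have hm2 : m < masks.length := (hf k hk).1.1.1.2 ▸ hm'
    have := hrank k hk m hm2
    rw [e, Units.val_one, sub_self, Matrix.zero_mul, Matrix.rank_zero, List.getD_eq_getElem?_getD,
      List.getElem?_eq_getElem hm', Option.getD_some] at this
    rw [← this, show Nat.beq 0 0 = true from rfl] at hne
    exact absurd hne (by decide)
  · obtain ⟨h, hh, e⟩ := hconj
    rcases lt_trichotomy i j with hl | hl | hl
    · obtain ⟨m, hm', hne⟩ := (hf j hj).2 i hl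
      have e2 := rank_eq_of_conj hV (hmask m hm') hh e
      rw [hrank i hi m hm', hrank j hj m hm'] at e2
      rw [e2, show Nat.beq _ _ = true from Nat.beq_refl _] at hne
      exact absurd hne (by decide)
    · exact hl
    · obtain ⟨m, hm', hne⟩ := (hf i hi).2 j hl
      have e2 := rank_eq_of_conj hV (hmask m hm') hh e
      rw [hrank i hi m hm', hrank j hj m hm'] at e2
      rw [e2, show Nat.beq _ _ = true from Nat.beq_refl _] at hne
      exact absurd hne (by decide)

theorem orderOf_wOne {masks : List ℕ} {fins : List (List ℕ)}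
    {certs : List (List (List (ℕ × ℕ × List ℕ)))} (hF : finsOK T masks fins certs = true) {k : ℕ}
    (hk : k < fins.length) : orderOf (wOne hV F (fins.getD k [])) = 2 := by
  obtain ⟨h1, h2⟩ := (rep_spec hV (F := F) hF).1 k hk
  exact orderOf_eq_prime (p := 2) (by rw [pow_two, h1]) h2

/-- The classes of involutions, listed by the matrices of the representatives. -/
theorem classes_list [Finite F] {sts : List State} {red : List (List Move × ℕ)} {masks : List ℕ}
    {fins : List (List ℕ)} {certs : List (List (List (ℕ × ℕ × List ℕ)))}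
    (hN : normalOK T sts = true) (hR : reduceOK T sts fins red = true)
    (hF : finsOK T masks fins certs = true) {L : List (Matrix D.Idx D.Idx F)}
    (hL : L = fins.map fun f => D.wordMat F (f.map fun r => (r, (1 : F)))) :
    (∀ y : GL D.Idx F, (y : Matrix D.Idx D.Idx F) ∈ L → y ∈ D.group F ∧ orderOf y = 2) ∧
      (∀ g ∈ D.group F, orderOf g = 2 → ∃ y ∈ D.group F, (y : Matrix D.Idx D.Idx F) ∈ L ∧
        ∃ h ∈ D.group F, h * g * h⁻¹ = y) ∧
      (∀ y₁ ∈ D.group F, ∀ y₂ ∈ D.group F, (y₁ : Matrix D.Idx D.Idx F) ∈ L →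
        (y₂ : Matrix D.Idx D.Idx F) ∈ L → (∃ h ∈ D.group F, h * y₁ * h⁻¹ = y₂) →
          (y₁ : Matrix D.Idx D.Idx F) = (y₂ : Matrix D.Idx D.Idx F)) := by
  subst hL
  have hmem : ∀ y : GL D.Idx F, (y : Matrix D.Idx D.Idx F) ∈
      fins.map (fun f => D.wordMat F (f.map fun r => (r, (1 : F)))) →
      ∃ k < fins.length, y = wOne hV F (fins.getD k []) := by
    intro y hy
    obtain ⟨f, hf, e⟩ := List.mem_map.1 hy
    obtain ⟨k, hk, rfl⟩ := List.getElem_of_mem hf
    refine ⟨k, hk, Units.ext ?_⟩
    rw [← e, List.getD_eq_getElem?_getD, List.getElem?_eq_getElem hk, Option.getD_some, wOne, Sys.coe_wU]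
  refine ⟨fun y hy => ?_, fun g hg h2 => ?_, fun y₁ _ y₂ _ hy₁ hy₂ hc => ?_⟩
  · obtain ⟨k, hk, rfl⟩ := hmem y hy
    exact ⟨wOne_group hV _, orderOf_wOne hV hF hk⟩
  · have hsq : g * g = 1 := by rw [← pow_two, ← h2]; exact pow_orderOf_eq_one g
    have hg1 : g ≠ 1 := fun e => by simp [e] at h2
    obtain ⟨k, hk, h, hh, e⟩ := exists_rep_conj hV hN hR hg hsq hg1
    refine ⟨_, wOne_group hV _, List.mem_map.2 ⟨fins.getD k [], ?_, ?_⟩, h, hh, e⟩
    · rw [List.getD_eq_getElem?_getD, List.getElem?_eq_getElem hk, Option.getD_some]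
      exact List.getElem_mem hk
    · rw [wOne, Sys.coe_wU]
  · obtain ⟨i, hi, rfl⟩ := hmem y₁ hy₁
    obtain ⟨j, hj, rfl⟩ := hmem y₂ hy₂
    rw [(rep_spec hV (F := F) hF).2 i hi j hj hc]

/-- The number of classes of involutions. -/
theorem classes_count [Finite F] {sts : List State} {red : List (List Move × ℕ)} {masks : List ℕ}
    {fins : List (List ℕ)} {certs : List (List (List (ℕ × ℕ × List ℕ)))}
    (hN : normalOK T sts = true) (hR : reduceOK T sts fins red = true)
    (hF : finsOK T masks fins certs = true) :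
    (ConjClasses.mk '' {g : ↥(D.group F) | orderOf g = 2}).ncard = fins.length := by
  let f : Fin fins.length → ConjClasses ↥(D.group F) := fun k =>
    ConjClasses.mk ⟨wOne hV F (fins.getD k []), wOne_group hV _⟩
  have himg : ConjClasses.mk '' {g : ↥(D.group F) | orderOf g = 2} = Set.range f := by
    apply Set.Subset.antisymm
    · rintro _ ⟨g, hg, rfl⟩
      have h2 : orderOf (g : GL D.Idx F) = 2 := by rw [Subgroup.orderOf_coe]; exact hg
      have hsq : (g : GL D.Idx F) * g = 1 := by rw [← pow_two, ← h2]; exact pow_orderOf_eq_one _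
      have hg1 : (g : GL D.Idx F) ≠ 1 := fun e => by simp [e] at h2
      obtain ⟨k, hk, h, hh, e⟩ := exists_rep_conj hV hN hR g.2 hsq hg1
      refine ⟨⟨k, hk⟩, (ConjClasses.mk_eq_mk_iff_isConj.2 (isConj_iff.2 ⟨⟨h, hh⟩, Subtype.ext e⟩)).symm⟩
    · rintro _ ⟨k, rfl⟩
      refine ⟨_, ?_, rfl⟩
      show orderOf _ = 2
      rw [← Subgroup.orderOf_coe]
      exact orderOf_wOne hV hF k.2
  rw [himg, Set.ncard_range_of_injective, Nat.card_eq_fintype_card, Fintype.card_fin]
  intro i j hij
  obtain ⟨c, hc⟩ := isConj_iff.1 (ConjClasses.mk_eq_mk_iff_isConj.1 hij)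
  exact Fin.ext ((rep_spec hV (F := F) hF).2 i i.2 j j.2 ⟨c, c.2, congrArg Subtype.val hc⟩)

end CfsgLib.Chev.CharTwoInvol
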