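import Cfsg.Agent.Chev.CharTwoInvol.Basic

/-!
# Removing pairs of root subgroups interchanged by a reflection from an involution

An involution `n u`, `n` a reflection and `u` unipotent in the roots permuted by it, is conjugate to one with
`u` in the roots fixed by it.
-/

set_option autoImplicit false

namespace CfsgLib.Chev.CharTwoInvol

open Cfsg.Lie Matrix CfsgLib.Chev

universe u

variable {D : ChevalleyDatum} (S : Sys.{u} D) {F : Type u} [Field F]

/-- Conjugacy by an element of the group commuting with a given element. -/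
def CnjIn (D : ChevalleyDatum) {F : Type u} [Field F] (z x y : GL D.Idx F) : Prop :=
  ∃ h ∈ D.group F, Commute h z ∧ h * x * h⁻¹ = y

theorem CnjIn.refl (z x : GL D.Idx F) : CnjIn D z x x := ⟨1, one_mem _, Commute.one_left _, by simp⟩

theorem CnjIn.trans {z x y w : GL D.Idx F} (h₁ : CnjIn D z x y) (h₂ : CnjIn D z y w) : CnjIn D z x w := by
  obtain ⟨g, hg, c, rfl⟩ := h₁
  obtain ⟨h, hh, c', rfl⟩ := h₂
  exact ⟨h * g, mul_mem hh hg, c'.mul_left c, by group⟩

theorem CnjIn.sq {z x y : GL D.Idx F} (h : CnjIn D z x y) (hx : x * x = 1) : y * y = 1 := by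
  obtain ⟨g, -, -, rfl⟩ := h
  rw [show g * x * g⁻¹ * (g * x * g⁻¹) = g * (x * x) * g⁻¹ by group, hx]
  group

include S

/-- A single coordinate as an ordered product. -/
theorem prodFrom_single (a : ℕ) (α : F) : ∀ d k, D.nroots - k = d →
    S.prodFrom (Function.update (0 : ℕ → F) a α) k = if k ≤ a ∧ a < D.nroots then S.xU a α else 1 := by
  intro d
  induction d with
  | zero =>
    intro k hk
    rw [if_neg (by omega), Sys.prodFrom, hk]
    simp [Sys.wU]
  | succ d ih =>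
    intro k hk
    rw [S.prodFrom_succ _ (by omega), ih (k + 1) (by omega)]
    by_cases e : k = a
    · subst e
      rw [Function.update_self, if_neg (by omega), mul_one, if_pos ⟨le_rfl, by omega⟩]
    · rw [Function.update_of_ne e, Pi.zero_apply, S.xU_zero, one_mul]
      exact if_congr (by omega) rfl rfl

/-- Coordinates of an element of the subgroup of a closed set. -/
theorem exists_coords {P : ℕ → Prop} (hP : S.IsClosedRootSet P) {g : GL D.Idx F} (hg : g ∈ S.genBy F P) :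
    ∃ t : ℕ → F, (∀ r, ¬ (P r ∧ D.nroots / 2 ≤ r ∧ r < D.nroots) → t r = 0) ∧
      g = S.prodFrom t (D.nroots / 2) :=
  S.exists_supported hP le_rfl (S.genBy_mono (fun _ h _ h' => ⟨h', h⟩) hg)

theorem coef_zero {P : ℕ → Prop} (hP : S.IsClosedRootSet P) {a : ℕ} (h1 : D.nroots / 2 ≤ a)
    (h2 : a < D.nroots) (ha : ¬ P a) {α : F} (h : S.xU a α ∈ S.genBy F P) : α = 0 := by
  obtain ⟨t, ht, e⟩ := exists_coords S hP h
  have e' := prodFrom_single S a α _ (D.nroots / 2) rfl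
  rw [if_pos ⟨h1, h2⟩] at e'
  rw [← e'] at e
  have := S.prodFrom_inj le_rfl e a h1 h2
  rw [Function.update_self, ht a fun h => ha h.1] at this
  exact this

/-- A root subgroup normalising the subgroup of a set of roots. -/
theorem conj_genBy {P : ℕ → Prop} {a : ℕ} (ha1 : D.nroots / 2 ≤ a) (ha2 : a < D.nroots) (hna : ¬ P a)
    (hP : ∀ s v : ℕ, D.nroots / 2 ≤ s → s < D.nroots → P s → D.nroots / 2 ≤ v → v < D.nroots →
      (∃ i j : ℤ, 1 ≤ i ∧ 1 ≤ j ∧ ∀ b < D.rank, S.vec v b = i * S.vec a b + j * S.vec s b) → P v)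
    (t : F) {g : GL D.Idx F} (hg : g ∈ S.genBy F P) :
    S.xU a t * g * (S.xU a t)⁻¹ ∈ S.genBy F P := by
  have : S.genBy F P ≤ (S.genBy F P).comap (MulAut.conj (S.xU a t)).toMonoidHom :=
    S.genBy_le fun s hs1 hs2 hs3 v => by
      show S.xU a t * S.xU s v * (S.xU a t)⁻¹ ∈ S.genBy F P
      have hne : s ≠ a := fun e => hna (e ▸ hs3)
      rw [S.xU_inv, mul_assoc, S.comm_wU ha2 hs2 hne (S.pos_ne_neg ha2 ha1 hs1), ← mul_assoc,
        ← mul_assoc, S.xU_add, add_neg_cancel, S.xU_zero, one_mul]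
      refine Subgroup.mul_mem _ (S.xU_mem_genBy hs1 hs2 hs3 v) ?_
      rw [Sys.wU]
      refine Subgroup.list_prod_mem _ fun x hx => ?_
      obtain ⟨c, hc, rfl⟩ := List.mem_map.1 hx
      obtain ⟨g1, g2, g3⟩ := S.commWord_gt ha2 hs2 ha1 hs1 hc
      simp only [ChevalleyDatum.commWord, List.mem_map] at hc
      obtain ⟨d, hd, rfl⟩ := hc
      obtain ⟨-, i, j, hi, hj, hvec⟩ := S.commTerms_vec ha2 hs2 hd
      dsimp only at g1 g2 g3 ⊢
      exact S.xU_mem_genBy (by omega) g3 (hP s d.1 hs1 hs2 hs3 (by omega) g3 ⟨i, j, hi, hj, hvec⟩) _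
  exact this hg

theorem conj_genBy' {P : ℕ → Prop} {a : ℕ} (ha1 : D.nroots / 2 ≤ a) (ha2 : a < D.nroots) (hna : ¬ P a)
    (hP : ∀ s v : ℕ, D.nroots / 2 ≤ s → s < D.nroots → P s → D.nroots / 2 ≤ v → v < D.nroots →
      (∃ i j : ℤ, 1 ≤ i ∧ 1 ≤ j ∧ ∀ b < D.rank, S.vec v b = i * S.vec a b + j * S.vec s b) → P v)
    (t : F) {g : GL D.Idx F} (hg : g ∈ S.genBy F P) :
    (S.xU a t)⁻¹ * g * S.xU a t ∈ S.genBy F P := by
  have := conj_genBy S ha1 ha2 hna hP (-t) hg
  rwa [← S.xU_inv, inv_inv] at this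

/-- Splitting off one root subgroup. -/
theorem exists_split {P P' : ℕ → Prop} {a : ℕ} (ha1 : D.nroots / 2 ≤ a) (ha2 : a < D.nroots)
    (hna : ¬ P' a) (hsub : ∀ r, D.nroots / 2 ≤ r → r < D.nroots → P r → r = a ∨ P' r)
    (hP : ∀ s v : ℕ, D.nroots / 2 ≤ s → s < D.nroots → P' s → D.nroots / 2 ≤ v → v < D.nroots →
      (∃ i j : ℤ, 1 ≤ i ∧ 1 ≤ j ∧ ∀ b < D.rank, S.vec v b = i * S.vec a b + j * S.vec s b) → P' v)
    {g : GL D.Idx F} (hg : g ∈ S.genBy F P) :
    ∃ c : F, ∃ y ∈ S.genBy F P', g = S.xU a c * y := by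
  induction hg using Subgroup.closure_induction with
  | mem y hy =>
    obtain ⟨r, t, h1, h2, h3, rfl⟩ := hy
    rcases hsub r h1 h2 h3 with rfl | h
    · exact ⟨t, 1, one_mem _, (mul_one _).symm⟩
    · exact ⟨0, _, S.xU_mem_genBy h1 h2 h t, by rw [S.xU_zero, one_mul]⟩
  | one => exact ⟨0, 1, one_mem _, by rw [S.xU_zero, one_mul]⟩
  | mul x y _ _ hx hy =>
    obtain ⟨c, x', hx', rfl⟩ := hx
    obtain ⟨d, y', hy', rfl⟩ := hy
    refine ⟨c + d, S.xU a (-d) * x' * (S.xU a (-d))⁻¹ * y',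
      mul_mem (conj_genBy S ha1 ha2 hna hP (-d) hx') hy', ?_⟩
    rw [← S.xU_add, ← S.xU_inv]; group
  | inv x _ hx =>
    obtain ⟨c, x', hx', rfl⟩ := hx
    refine ⟨-c, S.xU a c * x'⁻¹ * (S.xU a c)⁻¹, conj_genBy S ha1 ha2 hna hP c (inv_mem hx'), ?_⟩
    rw [← S.xU_inv]; group

/-- The hypotheses on the reflection. -/
structure PairData (Q : ℕ → Prop) (p : ℕ → ℕ) : Prop where
  pos : ∀ r, Q r → D.nroots / 2 ≤ r ∧ r < D.nroots
  closed : S.IsClosedRootSet Q
  map : ∀ r, Q r → Q (p r)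
  invol : ∀ r, Q r → p (p r) = r
  linear : ∀ r s v, r < D.nroots → s < D.nroots → v < D.nroots → ∀ i j : ℤ,
    (∀ b < D.rank, S.vec v b = i * S.vec r b + j * S.vec s b) →
      S.lev (p v) = i * S.lev (p r) + j * S.lev (p s)

variable {Q : ℕ → Prop} {p : ℕ → ℕ}

theorem not_multiple : ∀ r < D.nroots, ∀ v < D.nroots, ∀ k : ℤ, 2 ≤ k →
    ¬ ∀ b < D.rank, S.vec v b = k * S.vec r b := by
  refine S.descend (fun q hq v hv k hk h => ?_) (fun q hq r hr ih v hv k hk h => ?_)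
  · have hq' : S.vec v q = k := by rw [h q hq, S.vec_simple q hq q hq, if_pos rfl, mul_one]
    by_cases hp : D.nroots / 2 ≤ v
    · by_cases e : v = D.simple q
      · rw [e, S.vec_simple q hq q hq, if_pos rfl] at hq'
        omega
      · obtain ⟨b, hb, hbq, hpos⟩ := S.exists_vec_pos hq hv hp e
        rw [h b hb, S.vec_simple q hq b hb, if_neg (Ne.symm hbq), mul_zero] at hpos
        omega
    · have h1 := S.vec_nonneg (D.neg v) (S.neg_lt hv) (by
        rw [S.neg_eq v hv]; have := S.even_nroots; omega) q hq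
      rw [S.vec_neg v hv q hq, hq'] at h1
      omega
  · refine ih (S.pi q v) (S.pi_lt q hq v hv) k hk fun b hb => ?_
    have hr' := S.pi_lt q hq r hr
    have hc : D.cartan q v = k * D.cartan q (S.pi q r) := by
      rw [S.cartan_vec q hq v hv, S.cartan_vec q hq _ hr', Finset.mul_sum]
      exact Finset.sum_congr rfl fun c hc => by rw [h c (Finset.mem_range.1 hc)]; ring
    have e := S.vec_pi q hq (S.pi q r) hr' b hb
    rw [S.pi_pi q hq r hr] at e
    rw [S.vec_pi q hq v hv b hb, h b hb, e, hc]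
    split_ifs <;> ring

/-- The order of the pairs. -/
def code2 (p : ℕ → ℕ) (r : ℕ) : ℕ := (S.lev r + S.lev (p r)).toNat * D.nroots + min r (p r)

/-- The remaining roots. -/
def Rem (Q : ℕ → Prop) (p : ℕ → ℕ) (c r : ℕ) : Prop := Q r ∧ (p r = r ∨ c ≤ code2 S p r)

theorem lev_comb {r s v : ℕ} {i j : ℤ} (h : ∀ b < D.rank, S.vec v b = i * S.vec r b + j * S.vec s b) :
    S.lev v = i * S.lev r + j * S.lev s := by
  simp only [Sys.lev, Finset.mul_sum, ← Finset.sum_add_distrib]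
  exact Finset.sum_congr rfl fun b hb => by rw [h b (Finset.mem_range.1 hb)]; ring

theorem code_gt (hp : PairData S Q p) {r s v : ℕ} (hr : Q r) (hs : Q s) (hv : Q v) {i j : ℤ}
    (hi : 1 ≤ i) (hj : 1 ≤ j) (h : ∀ b < D.rank, S.vec v b = i * S.vec r b + j * S.vec s b) :
    code2 S p r < code2 S p v ∧ code2 S p s < code2 S p v ∧ (p r = r → p s = s → p v = v) := by
  have hr' := hp.pos r hr
  have hs' := hp.pos s hs
  have hv' := hp.pos v hv
  have hpr := hp.pos _ (hp.map r hr)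
  have hps := hp.pos _ (hp.map s hs)
  have hpv := hp.pos _ (hp.map v hv)
  have a1 := S.lev_pos hr'.2 hr'.1
  have a2 := S.lev_pos hs'.2 hs'.1
  have a3 := S.lev_pos hpr.2 hpr.1
  have a4 := S.lev_pos hps.2 hps.1
  have e1 := lev_comb S h
  have e2 := hp.linear r s v hr'.2 hs'.2 hv'.2 i j h
  refine ⟨?_, ?_, fun f1 f2 => ?_⟩
  · have hlt : (S.lev r + S.lev (p r)).toNat + 1 ≤ (S.lev v + S.lev (p v)).toNat := by
      have : S.lev r + S.lev (p r) < S.lev v + S.lev (p v) := by rw [e1, e2]; nlinarith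
      omega
    have hm : min r (p r) < D.nroots := by omega
    have := Nat.mul_le_mul_right D.nroots hlt
    rw [add_mul, one_mul] at this
    unfold code2; omega
  · have hlt : (S.lev s + S.lev (p s)).toNat + 1 ≤ (S.lev v + S.lev (p v)).toNat := by
      have : S.lev s + S.lev (p s) < S.lev v + S.lev (p v) := by rw [e1, e2]; nlinarith
      omega
    have hm : min s (p s) < D.nroots := by omega
    have := Nat.mul_le_mul_right D.nroots hlt
    rw [add_mul, one_mul] at this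
    unfold code2; omega
  · rw [f1, f2, ← e1] at e2
    rcases lt_trichotomy (p v) v with h' | h' | h'
    · exact absurd e2 (S.lev_lt h' hv'.2).ne
    · exact h'
    · exact absurd e2 (S.lev_lt h' hpv.2).ne'

theorem rem_closed (hp : PairData S Q p) (c : ℕ) : S.IsClosedRootSet (Rem S Q p c) := by
  intro r s v hr hr2 hs hs2 hv hv2 h1 h2 h3
  obtain ⟨i, j, hi, hj, h⟩ := h3
  have hQv : Q v := hp.closed r s v hr hr2 hs hs2 hv hv2 h1.1 h2.1 ⟨i, j, hi, hj, h⟩
  obtain ⟨c1, c2, c3⟩ := code_gt S hp h1.1 h2.1 hQv hi hj h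
  refine ⟨hQv, ?_⟩
  rcases h1.2 with f1 | f1
  · rcases h2.2 with f2 | f2
    · exact Or.inl (c3 f1 f2)
    · exact Or.inr (by omega)
  · exact Or.inr (by omega)

variable [CharP F 2]

/-- The descent over the pairs. -/
theorem pairs_descend (hp : PairData S Q p) {N z : GL D.Idx F}
    (hN2 : N * N = 1) (hN : ∀ r, Q r → ∀ t : F, N * S.xU r t * N⁻¹ = S.xU (p r) t)
    (hz : ∀ r, Q r → ∀ t : F, Commute (S.xU r t) z) :
    ∀ c, ∀ u ∈ S.genBy F (Rem S Q p c), (N * u) * (N * u) = 1 →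
      ∃ f ∈ S.genBy F (fun r => Q r ∧ p r = r), CnjIn D z (N * u) (N * f) := by
  classical
  have hNi : N⁻¹ = N := inv_eq_of_mul_eq_one_right hN2
  have hmove : ∀ c, Finset.card ((Finset.range D.nroots).filter fun r =>
      Q r ∧ p r ≠ r ∧ c ≤ code2 S p r) = 0 →
      S.genBy F (Rem S Q p c) ≤ S.genBy F (fun r => Q r ∧ p r = r) := by
    intro c hc
    refine S.genBy_mono fun r h1 h2 h3 => ⟨h3.1, ?_⟩
    by_contra hne
    rw [Finset.card_eq_zero, Finset.filter_eq_empty_iff] at hc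
    exact hc (Finset.mem_range.2 h2) ⟨h3.1, hne, h3.2.resolve_left hne⟩
  intro c
  induction hm : Finset.card ((Finset.range D.nroots).filter fun r =>
      Q r ∧ p r ≠ r ∧ c ≤ code2 S p r) using Nat.strong_induction_on generalizing c with
  | _ m ih =>
  intro u hu hsq
  set A := (Finset.range D.nroots).filter fun r => Q r ∧ p r ≠ r ∧ c ≤ code2 S p r with hA
  by_cases hA0 : A = ∅
  · exact ⟨u, hmove c (by rw [← hA, hA0, Finset.card_empty]) hu, CnjIn.refl _ _⟩
  obtain ⟨a, haA, hmin⟩ := A.exists_min_image (code2 S p) (Finset.nonempty_iff_ne_empty.2 hA0)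
  obtain ⟨-, hQa, hpa, hca⟩ := Finset.mem_filter.1 haA
  set b := p a with hb
  have hQb : Q b := hp.map a hQa
  have hpb : p b = a := hp.invol a hQa
  obtain ⟨ha1, ha2⟩ := hp.pos a hQa
  obtain ⟨hb1, hb2⟩ := hp.pos b hQb
  have hcb : code2 S p b = code2 S p a := by
    unfold code2
    rw [hpb, add_comm (S.lev b), min_comm]
  set c' := code2 S p a + 1 with hc'
  have hne : ¬ Rem S Q p c' a := by
    rintro ⟨-, h | h⟩
    · exact hpa h
    · omega
  have hneb : ¬ Rem S Q p c' b := by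
    rintro ⟨-, h | h⟩
    · exact hpa (by rw [hpb] at h; exact h.symm)
    · omega
  have hsub : ∀ r, Rem S Q p c r → r = a ∨ r = b ∨ Rem S Q p c' r := by
    rintro r ⟨hQ, hr⟩
    by_cases hf : p r = r
    · exact Or.inr (Or.inr ⟨hQ, Or.inl hf⟩)
    have hr' := hp.pos r hQ
    have hc1 := hmin r (Finset.mem_filter.2 ⟨Finset.mem_range.2 hr'.2, hQ, hf, hr.resolve_left hf⟩)
    rcases hc1.eq_or_lt with e | e
    · have hpr := hp.pos _ (hp.map r hQ)
      have e1 : min r (p r) = min a b := by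
        have := congrArg (· % D.nroots) e
        simp only [code2, Nat.mul_add_mod_self_right] at this
        rw [Nat.mod_eq_of_lt (by omega), Nat.mod_eq_of_lt (by omega)] at this
        exact this.symm
      have : r = a ∨ r = b ∨ p r = a ∨ p r = b := by omega
      rcases this with h | h | h | h
      · exact Or.inl h
      · exact Or.inr (Or.inl h)
      · exact Or.inr (Or.inl (by rw [hb, ← h, hp.invol r hQ]))
      · exact Or.inl (by rw [← hp.invol r hQ, h, hpb])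
    · exact Or.inr (Or.inr ⟨hQ, Or.inr (by omega)⟩)
  have hnorm : ∀ x, Q x → code2 S p x = code2 S p a → ∀ (P : ℕ → Prop),
      (∀ s, P s → Q s) → (∀ v, Q v → code2 S p a < code2 S p v → P v) →
      ∀ s v : ℕ, D.nroots / 2 ≤ s → s < D.nroots → P s → D.nroots / 2 ≤ v → v < D.nroots →
        (∃ i j : ℤ, 1 ≤ i ∧ 1 ≤ j ∧ ∀ k < D.rank, S.vec v k = i * S.vec x k + j * S.vec s k) → P v := by
    intro x hx hxc P hP1 hP2 s v hs1 hs2 hs hv1 hv2 hv
    obtain ⟨i, j, hi, hj, h⟩ := hv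
    have hQv : Q v := hp.closed x s v (hp.pos x hx).1 (hp.pos x hx).2 hs1 hs2 hv1 hv2 hx (hP1 s hs)
      ⟨i, j, hi, hj, h⟩
    exact hP2 v hQv (by have := (code_gt S hp hx (hP1 s hs) hQv hi hj h).1; omega)
  set H := S.genBy F (Rem S Q p c') with hH
  have nA := hnorm a hQa rfl (Rem S Q p c') (fun _ h => h.1) (fun v hv h => ⟨hv, Or.inr h⟩)
  have nB := hnorm b hQb hcb (Rem S Q p c') (fun _ h => h.1) (fun v hv h => ⟨hv, Or.inr h⟩)
  let P'' : ℕ → Prop := fun r => r = b ∨ Rem S Q p c' r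
  have hP''a : ¬ P'' a := by
    rintro (h | h)
    · exact hpa h.symm
    · exact hne h
  have hP''Q : ∀ s, P'' s → Q s := by
    rintro s (rfl | h)
    · exact hQb
    · exact h.1
  have nA'' := hnorm a hQa rfl P'' hP''Q (fun v hv h => Or.inr ⟨hv, Or.inr h⟩)
  have hcl : S.IsClosedRootSet P'' := by
    intro r s v hr1 hr2 hs1 hs2 hv1 hv2 h1 h2 h3
    obtain ⟨i, j, hi, hj, h⟩ := h3
    rcases h1 with e | h1
    · subst e
      rcases h2 with e | h2
      · subst e
        exact absurd (fun k hk => by rw [h k hk]; ring) (not_multiple S b hb2 v hv2 (i + j) (by omega))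
      · exact Or.inr (nB s v hs1 hs2 h2 hv1 hv2 ⟨i, j, hi, hj, h⟩)
    · rcases h2 with e | h2
      · subst e
        exact Or.inr (nB r v hr1 hr2 h1 hv1 hv2 ⟨j, i, hj, hi, fun k hk => by rw [h k hk]; ring⟩)
      · exact Or.inr (rem_closed S hp c' r s v hr1 hr2 hs1 hs2 hv1 hv2 h1 h2 ⟨i, j, hi, hj, h⟩)
  obtain ⟨α, u₁, hu₁, rfl⟩ := exists_split S ha1 ha2 hP''a (P := Rem S Q p c) (P' := P'')
    (fun r _ _ hr => hsub r hr) nA'' hu
  obtain ⟨β, y, hy, rfl⟩ := exists_split S hb1 hb2 hneb (P := P'') (P' := Rem S Q p c')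
    (fun r _ _ hr => hr) nB hu₁
  have cA : ∀ (t : F) {g : GL D.Idx F}, g ∈ H → S.xU a t * g * (S.xU a t)⁻¹ ∈ H :=
    fun t _ hg => conj_genBy S ha1 ha2 hne nA t hg
  have cA' : ∀ (t : F) {g : GL D.Idx F}, g ∈ H → (S.xU a t)⁻¹ * g * S.xU a t ∈ H :=
    fun t _ hg => conj_genBy' S ha1 ha2 hne nA t hg
  have cB : ∀ (t : F) {g : GL D.Idx F}, g ∈ H → S.xU b t * g * (S.xU b t)⁻¹ ∈ H :=
    fun t _ hg => conj_genBy S hb1 hb2 hneb nB t hg
  have hswap : ∀ s t : F, ∃ w ∈ H, S.xU b s * S.xU a t = S.xU a t * S.xU b s * w := by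
    intro s t
    refine ⟨_, ?_, S.comm_wU ha2 hb2 hpa (S.pos_ne_neg ha2 ha1 hb1) t s⟩
    rw [Sys.wU]
    refine Subgroup.list_prod_mem _ fun x hx => ?_
    obtain ⟨q, hq, rfl⟩ := List.mem_map.1 hx
    obtain ⟨g1, g2, g3⟩ := S.commWord_gt ha2 hb2 ha1 hb1 hq
    simp only [ChevalleyDatum.commWord, List.mem_map] at hq
    obtain ⟨d, hd, rfl⟩ := hq
    obtain ⟨-, i, j, hi, hj, hvec⟩ := S.commTerms_vec ha2 hb2 hd
    dsimp only at g1 g2 g3 ⊢
    have hQv : Q d.1 := hp.closed a b d.1 ha1 ha2 hb1 hb2 (by omega) g3 hQa hQb ⟨i, j, hi, hj, hvec⟩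
    have hgt := (code_gt S hp hQa hQb hQv hi hj hvec).1
    exact S.xU_mem_genBy (by omega) g3 ⟨hQv, Or.inr hgt⟩ _
  have hNH : N * y * N⁻¹ ∈ H := by
    have : H ≤ H.comap (MulAut.conj N).toMonoidHom := S.genBy_le fun r h1 h2 h3 t => by
      show N * S.xU r t * N⁻¹ ∈ H
      rw [hN r h3.1]
      obtain ⟨q1, q2⟩ := hp.pos _ (hp.map r h3.1)
      refine S.xU_mem_genBy q1 q2 ⟨hp.map r h3.1, ?_⟩ t
      rcases h3.2 with h | h
      · exact Or.inl (by rw [h, h])
      · refine Or.inr ?_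
        unfold code2 at h ⊢
        rwa [hp.invol r h3.1, add_comm (S.lev (p r)), min_comm]
    exact this hy
  have hNa : ∀ t : F, N * S.xU a t = S.xU b t * N := fun t => by rw [← hN a hQa t]; group
  have hNb : ∀ t : F, N * S.xU b t = S.xU a t * N := fun t => by rw [← hpb, ← hN b hQb t]; group
  obtain ⟨w1, hw1, e1⟩ := hswap α (α + β)
  have hγ : S.xU a (α + β) ∈ S.genBy F P'' := by
    set y' := N * y * N⁻¹ with hy'
    have hsq' : S.xU b α * S.xU a β * y' * S.xU a α * S.xU b β * y = 1 := by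
      rw [← hsq, hy', hNi, show N * (S.xU a α * (S.xU b β * y)) * (N * (S.xU a α * (S.xU b β * y))) =
        (N * S.xU a α) * (S.xU b β * y * (N * (S.xU a α * (S.xU b β * y)))) by group, hNa]
      rw [show S.xU b α * N * (S.xU b β * y * (N * (S.xU a α * (S.xU b β * y)))) =
        S.xU b α * (N * S.xU b β) * y * N * (S.xU a α * (S.xU b β * y)) by group, hNb]
      group
    have hh : w1 * ((S.xU a α)⁻¹ * y' * S.xU a α) ∈ H := mul_mem hw1 (cA' α hNH)
    have e3 : S.xU b α * S.xU a β * y' * S.xU a α * S.xU b β * y =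
        S.xU a (α + β) * (S.xU b α * (w1 * ((S.xU a α)⁻¹ * y' * S.xU a α)) * S.xU b β * y) := by
      rw [show S.xU b α * S.xU a β * y' * S.xU a α * S.xU b β * y =
          S.xU b α * (S.xU a β * S.xU a α) * ((S.xU a α)⁻¹ * y' * S.xU a α) * S.xU b β * y by group,
        S.xU_add, add_comm β α, e1]
      group
    have e4 : S.xU a (α + β) = (S.xU b α * (w1 * ((S.xU a α)⁻¹ * y' * S.xU a α)) * S.xU b β * y)⁻¹ :=
      eq_inv_of_mul_eq_one_left (e3 ▸ hsq')
    rw [e4]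
    have hbm : ∀ t : F, S.xU b t ∈ S.genBy F P'' := fun t => S.xU_mem_genBy hb1 hb2 (Or.inl rfl) t
    have hle : H ≤ S.genBy F P'' := S.genBy_mono fun _ _ _ h => Or.inr h
    exact inv_mem (mul_mem (mul_mem (mul_mem (hbm α) (hle hh)) (hbm β)) (hle hy))
  have h0 := coef_zero S hcl ha1 ha2 hP''a hγ
  have hαβ : β = α := by
    have : α = β := CharTwo.add_eq_zero.1 h0
    exact this.symm
  subst hαβ
  clear hγ e1 hw1
  obtain ⟨w, hw, e⟩ := hswap β β
  have hself : ∀ r, ∀ t : F, S.xU r t * S.xU r t = 1 := fun r t => by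
    rw [S.xU_add, CharTwo.add_self_eq_zero, S.xU_zero]
  set u' := S.xU b β * S.xU a β * S.xU b β * y * S.xU a β with hu'
  have hu'H : u' ∈ H := by
    have e5 : u' = (S.xU a β) * ((S.xU b β * w * (S.xU b β)⁻¹) * y) * (S.xU a β)⁻¹ := by
      rw [hu', e, S.xU_inv a, S.xU_inv b, CharTwo.neg_eq]
      simp only [mul_assoc]
    rw [e5]
    exact cA β (mul_mem (cB β hw) hy)
  have hconj : S.xU a β * (N * (S.xU a β * (S.xU b β * y))) * (S.xU a β)⁻¹ = N * u' := by
    rw [hu', S.xU_inv a, CharTwo.neg_eq, ← mul_assoc (S.xU a β) N,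
      show S.xU a β * N = N * S.xU b β by rw [hNb]]
    simp only [mul_assoc]
  have hstep : CnjIn D z (N * (S.xU a β * (S.xU b β * y))) (N * u') :=
    ⟨S.xU a β, S.xU_mem_group _ _, hz a hQa β, hconj⟩
  have hlt : ((Finset.range D.nroots).filter fun r => Q r ∧ p r ≠ r ∧ c' ≤ code2 S p r).card < m := by
    rw [← hm]
    refine Finset.card_lt_card (Finset.ssubset_iff_of_subset ?_ |>.2 ⟨a, haA, ?_⟩)
    · intro r hr
      obtain ⟨q1, q2, q3, q4⟩ := Finset.mem_filter.1 hr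
      exact Finset.mem_filter.2 ⟨q1, q2, q3, by omega⟩
    · intro h
      have := (Finset.mem_filter.1 h).2.2.2
      omega
  obtain ⟨f, hf, hc2⟩ := ih _ hlt c' rfl u' hu'H (hstep.sq hsq)
  exact ⟨f, hf, hstep.trans hc2⟩

end CfsgLib.Chev.CharTwoInvol
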