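import Cfsg.Agent.Chev.CharTwoInvol.Basic

/-!
# Tables of sets of orthogonal roots, and of conjugations between them
-/

set_option autoImplicit false

namespace CfsgLib.Chev.CharTwoInvol

open Cfsg.Lie CfsgLib.Chev

/-- A fundamental root of the orthogonal system of a state, with the next state. -/
structure Step where
  /-- the root -/
  root : ℕ
  /-- a word carrying a fundamental root to it -/
  path : List ℕ
  /-- the fundamental root -/
  base : ℕ
  /-- the next state -/
  next : ℕ
  /-- the word carrying the roots to the next state -/
  move : List ℕ

/-- A set of orthogonal positive roots. -/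
structure State where
  /-- the roots -/
  roots : List ℕ
  /-- the steps -/
  steps : List Step

/-- The word of the reflection in the root of a step. -/
def Step.refl (e : Step) : List ℕ := e.path ++ [e.base] ++ e.path.reverse

/-- The roots of a list commute pairwise. -/
noncomputable def allComm (T : Tbl) (L : List ℕ) : Bool :=
  L.all fun r => Nat.blt r T.n && L.all fun s => commEven T r s

/-- The check of one step. -/
noncomputable def stepOK (T : Tbl) (sts : List State) (i : ℕ) (st : State) (e : Step) : Bool :=
  let L := e.refl
  let nx := sts.getD e.next ⟨[], []⟩
  e.path.all (fun q => Nat.blt q T.l) && Nat.blt e.base T.l && e.move.all (fun q => Nat.blt q T.l) &&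
  Nat.blt i e.next && Nat.blt e.next sts.length &&
  psi T st.roots e.root && Nat.beq (wAct T e.path (T.simpleAt e.base)) e.root &&
  Nat.beq (wAct T L e.root) (T.negAt e.root) &&
  st.roots.all (fun s => Nat.beq (wAct T L s) s && decide (prT T s e.root = 0)) &&
  ((st.roots ++ [e.root]).map (wAct T e.move)).isPerm nx.roots &&
  (List.range T.n).all fun r => !psi T st.roots r || Nat.beq r e.root ||
    (psi T st.roots (wAct T L r) && !Nat.beq (wAct T L r) e.root &&
      Nat.beq (wAct T L (wAct T L r)) r &&
      (!Nat.beq (wAct T L r) r || (commEven T e.root r && psi T nx.roots (wAct T e.move r))))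

/-- The check of one state. -/
noncomputable def stateOK (T : Tbl) (sts : List State) (i : ℕ) : Bool :=
  let st := sts.getD i ⟨[], []⟩
  allComm T st.roots && st.steps.all (stepOK T sts i st) &&
  (List.range T.n).all fun r => !psi T st.roots r ||
    (st.roots.all (fun s => commEven T r s) &&
      (st.steps.any (fun e => Nat.beq r e.root) || st.steps.any fun e => Nat.blt (wAct T e.refl r) r))

/-- The check of the table of states. -/
noncomputable def normalOK (T : Tbl) (sts : List State) : Bool :=
  Nat.blt 0 sts.length && (sts.getD 0 ⟨[], []⟩).roots.isEmpty &&
  (List.range sts.length).all fun i => stateOK T sts i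

/-- A conjugation of products of root elements. -/
inductive Move where
  | weyl (w : List ℕ) (tgt : List ℕ)
  | word (w : List ℕ) (tgt : List ℕ)

/-- The product of a list of roots after a chain of conjugations. -/
noncomputable def chainEnd : List Move → List ℕ → List ℕ
  | [], L => L
  | .weyl _ t :: ms, _ => chainEnd ms t
  | .word _ t :: ms, _ => chainEnd ms t

/-- The check of a chain of conjugations. -/
noncomputable def chainOK (T : Tbl) : List Move → List ℕ → Bool
  | [], _ => true
  | .weyl w t :: ms, L => w.all (fun q => Nat.blt q T.l) && L.all (fun r => Nat.blt r T.n) &&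
      allComm T t && (L.map (wAct T w)).isPerm t && chainOK T ms t
  | .word w t :: ms, L => sameBits T (w ++ L) (t ++ w) && chainOK T ms t

/-- The check that each state is carried to one of the representatives. -/
noncomputable def reduceOK (T : Tbl) (sts : List State) (fins : List (List ℕ))
    (red : List (List Move × ℕ)) : Bool :=
  (List.range sts.length).all fun i => Nat.beq i 0 ||
    (let c := red.getD i ([], 0)
     let L := (sts.getD i ⟨[], []⟩).roots
     chainOK T c.1 L && Nat.blt c.2 fins.length && decide (chainEnd c.1 L = fins.getD c.2 []))

end CfsgLib.Chev.CharTwoInvol
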