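import Cfsg.Agent.Chev.BN
import Cfsg.Agent.Chev.CharTwoInvol.Pairs
import Cfsg.Agent.Chev.CharTwoInvol.Table

/-!
# Involutions in characteristic two are conjugate to products over orthogonal roots
-/

set_option autoImplicit false

namespace CfsgLib.Chev.CharTwoInvol

open Cfsg.Lie Matrix CfsgLib.Chev

universe u

variable {D : ChevalleyDatum} {T : Tbl} (hV : T.Valid D) {F : Type u} [Field F] [CharP F 2]

include hV

theorem wOne_perm {L L' : List ℕ} (hc : allComm T L' = true) (h : L.Perm L') :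
    wOne hV F L = wOne hV F L' := by
  refine List.Perm.prod_eq' ((h.map _).map _) ?_
  simp only [allComm, List.all_eq_true, Bool.and_eq_true] at hc
  simp only [List.map_map]
  rw [List.pairwise_map]
  refine List.pairwise_iff_forall_sublist.2 fun {a b} hab => ?_
  have ha : a ∈ L := hab.subset (by simp)
  have hb : b ∈ L := hab.subset (by simp)
  exact commute_xU hV (Nat.le_of_ble_eq_true (hc a (h.mem_iff.1 ha)).1)
      (Nat.le_of_ble_eq_true (hc b (h.mem_iff.1 hb)).1) ((hc a (h.mem_iff.1 ha)).2 b (h.mem_iff.1 hb)) 1 1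

theorem wOne_commute {L : List ℕ} {g : GL D.Idx F}
    (h : ∀ r ∈ L, Commute g ((Tbl.Valid.toSys.{u} hV).xU r 1)) : Commute g (wOne hV F L) := by
  induction L with
  | nil => exact Commute.one_right _
  | cons r L ih =>
    rw [wOne_cons]
    exact (h r (by simp)).mul_right (ih fun x hx => h x (by simp [hx]))

theorem nw_wOne {w L : List ℕ} (hw : ∀ q ∈ w, q < T.l) (hL : ∀ r ∈ L, r < T.n) :
    (Tbl.Valid.toSys.{u} hV).nw F w * wOne hV F L * ((Tbl.Valid.toSys.{u} hV).nw F w)⁻¹ =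
      wOne hV F (L.map (wAct T w)) := by
  induction L with
  | nil => simp [wOne_nil]
  | cons r L ih =>
    rw [List.map_cons, wOne_cons, wOne_cons, ← ih (fun x hx => hL x (by simp [hx])),
      ← nw_xU hV hw (hL r (by simp))]
    group

theorem wOne_group (L : List ℕ) : wOne hV F L ∈ D.group F := (Tbl.Valid.toSys.{u} hV).wU_mem_group _

theorem wOne_sq {L : List ℕ} (hc : allComm T L = true) : wOne hV F L * wOne hV F L = 1 := by
  simp only [allComm, List.all_eq_true, Bool.and_eq_true] at hc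
  have : ∀ L' : List ℕ, (∀ r ∈ L', r ∈ L) → wOne hV F L' * wOne hV F L' = 1 := by
    intro L'
    induction L' with
    | nil => intro _; simp [wOne_nil]
    | cons r L' ih =>
      intro hm
      have hcm : Commute ((Tbl.Valid.toSys.{u} hV).xU r (1 : F)) (wOne hV F L') :=
        wOne_commute hV fun s hs => commute_xU hV (Nat.le_of_ble_eq_true (hc r (hm r (by simp))).1)
          (Nat.le_of_ble_eq_true (hc s (hm s (by simp [hs]))).1)
          ((hc r (hm r (by simp))).2 s (hm s (by simp [hs]))) 1 1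
      rw [wOne_cons, show ∀ a P : GL D.Idx F, a * P * (a * P) = a * (P * a) * P from fun a P => by group,
        ← hcm.eq, show ∀ a P : GL D.Idx F, a * (a * P) * P = a * a * (P * P) from fun a P => by group,
        ih (fun x hx => hm x (by simp [hx])), mul_one, Sys.xU_add,
        CharTwo.add_self_eq_zero, Sys.xU_zero]
  exact this L fun _ h => h

/-- An involution is conjugate into `U`. -/
theorem exists_conj_pos [Finite F] {g : GL D.Idx F} (hg : g ∈ D.group F) (hsq : g * g = 1) :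
    ∃ h ∈ D.group F, h * g * h⁻¹ ∈ D.posUnipotent F := by
  haveI : Fact (Nat.Prime 2) := ⟨Nat.prime_two⟩
  haveI := Sys.finite_GL (D := D) (F := F)
  haveI : Fintype F := Fintype.ofFinite F
  set S := Tbl.Valid.toSys.{u} hV
  set U := (D.posUnipotent F).subgroupOf (D.group F)
  obtain ⟨k, -, hk⟩ := FiniteField.card F 2
  have hU : Nat.card U = 2 ^ ((k : ℕ) * (D.nroots / 2)) := by
    rw [Nat.card_congr (Subgroup.subgroupOfEquivOfLe S.pos_le_group).toEquiv, S.card_pos,
      Nat.card_eq_fintype_card, hk, pow_mul]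
  set P₀ : Sylow 2 (D.group F) := (IsPGroup.of_card hU).toSylow (S.not_dvd_index_pos 2)
  have hsq' : (⟨g, hg⟩ : D.group F) * ⟨g, hg⟩ = 1 := Subtype.ext hsq
  have hz : IsPGroup 2 (Subgroup.zpowers (⟨g, hg⟩ : D.group F)) := fun x => by
    obtain ⟨i, hi⟩ := x.2
    refine ⟨1, Subtype.ext ?_⟩
    show (x : D.group F) ^ (2 ^ 1) = 1
    rw [← hi, pow_one, ← zpow_natCast, ← _root_.zpow_mul, mul_comm, _root_.zpow_mul, zpow_natCast,
      pow_two, hsq', _root_.one_zpow]
  obtain ⟨P, hP⟩ := hz.exists_le_sylow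
  obtain ⟨d, hd⟩ := MulAction.exists_smul_eq (D.group F) P₀ P
  have h1 : (⟨g, hg⟩ : D.group F) ∈ (P : Subgroup (D.group F)) := hP (Subgroup.mem_zpowers _)
  rw [← hd, Sylow.coe_subgroup_smul, Subgroup.mem_pointwise_smul_iff_inv_smul_mem] at h1
  have h2 : (MulAut.conj d)⁻¹ (⟨g, hg⟩ : D.group F) ∈ U := h1
  have h3 : ((d⁻¹ * ⟨g, hg⟩ * d : D.group F) : GL D.Idx F) ∈ D.posUnipotent F := by
    simpa [U, Subgroup.mem_subgroupOf] using h2
  exact ⟨(d⁻¹ : D.group F), (d⁻¹).2, by simpa using h3⟩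

/-- The positive roots of an orthogonal system other than one of its fundamental roots form a closed set. -/
theorem step_closed {sts : List State} {i : ℕ} {st : State} {e : Step}
    (he : stepOK T sts i st e = true) (hS : ∀ s ∈ st.roots, s < T.n) :
    (Tbl.Valid.toSys.{u} hV).IsClosedRootSet (fun r => psi T st.roots r = true ∧ r ≠ e.root) := by
  set S := Tbl.Valid.toSys.{u} hV
  simp only [stepOK, Bool.and_eq_true, List.all_eq_true, List.mem_range, Bool.or_eq_true,
    Bool.not_eq_true'] at he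
  obtain ⟨⟨⟨⟨⟨⟨⟨⟨⟨⟨hp, hb⟩, -⟩, -⟩, -⟩, hρ⟩, -⟩, hneg⟩, -⟩, -⟩, hall⟩ := he
  have hL : ∀ q ∈ e.refl, q < T.l := by
    intro q hq
    simp only [Step.refl, List.mem_append, List.mem_singleton, List.mem_reverse] at hq
    rcases hq with (hq | rfl) | hq
    exacts [Nat.le_of_ble_eq_true (hp q hq), Nat.le_of_ble_eq_true hb, Nat.le_of_ble_eq_true (hp q hq)]
  intro r s w hr hr2 hs hs2 hw hw2 q1 q2 q3
  refine ⟨psi_closed.{u} hV hS r s w hr hr2 hs hs2 hw hw2 q1.1 q2.1 q3, ?_⟩
  obtain ⟨a', b', ha', hb', hh⟩ := q3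
  intro e'
  subst e'
  obtain ⟨-, -, hwn⟩ := psi_pos hV hρ
  have pim : ∀ x, psi T st.roots x = true ∧ x ≠ e.root → 0 < S.lev (wAct T e.refl x) := fun x hx => by
    obtain ⟨-, -, hxn⟩ := psi_pos hV hx.1
    rcases hall x hxn with (k | k) | k
    · exact absurd k (by simp [hx.1])
    · exact absurd (Nat.eq_of_beq_eq_true k) hx.2
    · obtain ⟨a1, a2, -⟩ := psi_pos hV k.1.1.1
      exact S.lev_pos a2 a1
  have e3 := lev_comb S (vec_wAct hV hL (psi_pos hV q1.1).2.2 (psi_pos hV q2.1).2.2 hwn hh)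
  rw [Nat.eq_of_beq_eq_true hneg, ← neg_eq_negAt hV hwn, S.lev_neg hw2] at e3
  have c1 := pim r q1
  have c2 := pim s q2
  have c3 := S.lev_pos hw2 hw
  nlinarith

/-- The step at a fundamental root of the orthogonal system. -/
theorem step_reduce [Finite F] {sts : List State} {i : ℕ} {st : State} {e : Step}
    (he : stepOK T sts i st e = true) (hcm : ∀ r, psi T st.roots r = true → ∀ s ∈ st.roots,
      commEven T r s = true) (hS : ∀ s ∈ st.roots, s < T.n)
    {c : F} (hc0 : c ≠ 0) {v : GL D.Idx F}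
    (hv : v ∈ (Tbl.Valid.toSys.{u} hV).genBy F (fun r => psi T st.roots r = true ∧ r ≠ e.root))
    (hsq : ((Tbl.Valid.toSys.{u} hV).xU e.root c * v) * ((Tbl.Valid.toSys.{u} hV).xU e.root c * v) = 1)
    (hcc : allComm T (sts.getD e.next ⟨[], []⟩).roots = true) :
    ∃ f ∈ (Tbl.Valid.toSys.{u} hV).genBy F (fun r => psi T (sts.getD e.next ⟨[], []⟩).roots r = true),
      f * f = 1 ∧ i < e.next ∧ e.next < sts.length ∧
      ∃ h ∈ D.group F, h * (wOne hV F st.roots * ((Tbl.Valid.toSys.{u} hV).xU e.root c * v)) * h⁻¹ =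
        wOne hV F (sts.getD e.next ⟨[], []⟩).roots * f := by
  classical
  haveI : Fintype F := Fintype.ofFinite F
  set S := Tbl.Valid.toSys.{u} hV with hSdef
  set L := e.refl with hL
  set nx := sts.getD e.next ⟨[], []⟩
  have he0 := he
  simp only [stepOK, Bool.and_eq_true, List.all_eq_true, List.mem_range, decide_eq_true_eq,
    Bool.or_eq_true, Bool.not_eq_true'] at he
  obtain ⟨⟨⟨⟨⟨⟨⟨⟨⟨⟨hp, hb⟩, hm⟩, hlt⟩, hlen⟩, hρ⟩, hpath⟩, hneg⟩, hfix⟩, hperm⟩, hall⟩ := he
  have hp' : ∀ q ∈ e.path, q < T.l := fun q hq => Nat.le_of_ble_eq_true (hp q hq)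
  have hb' : e.base < T.l := Nat.le_of_ble_eq_true hb
  have hm' : ∀ q ∈ e.move, q < T.l := fun q hq => Nat.le_of_ble_eq_true (hm q hq)
  have hLl : ∀ q ∈ L, q < T.l := by
    intro q hq
    simp only [hL, Step.refl, List.mem_append, List.mem_singleton, List.mem_reverse] at hq
    rcases hq with (hq | rfl) | hq
    exacts [hp' q hq, hb', hp' q hq]
  obtain ⟨hρ1, hρ2, hρn⟩ := psi_pos hV hρ
  set ρ := e.root
  set p := wAct T L with hpdef
  set N := S.nU ρ (1 : F) with hN
  have hNw : N = S.nw F L := by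
    rw [hN, hL, Step.refl, nw_palindrome hV hp' hb', Nat.eq_of_beq_eq_true hpath]
  have hpρ : p ρ = T.negAt ρ := Nat.eq_of_beq_eq_true hneg
  let Q : ℕ → Prop := fun r => psi T st.roots r = true ∧ r ≠ ρ
  have hQ : ∀ r, Q r → Q (p r) ∧ p (p r) = r ∧
      (p r = r → commEven T ρ r = true ∧ psi T nx.roots (wAct T e.move r) = true) := by
    rintro r ⟨h1, h2⟩
    obtain ⟨-, hr2, hr3⟩ := psi_pos hV h1
    rcases hall r hr3 with (h | h) | h
    · exact absurd h (by simp [h1])
    · exact absurd (Nat.eq_of_beq_eq_true h) h2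
    · obtain ⟨⟨⟨q1, q2⟩, q3⟩, q4⟩ := h
      refine ⟨⟨q1, fun e' => ?_⟩, Nat.eq_of_beq_eq_true q3, fun e' => ?_⟩
      · rw [e', show Nat.beq ρ ρ = true from Nat.beq_refl _] at q2
        exact absurd q2 (by decide)
      · rcases q4 with q4 | q4
        · rw [e', show Nat.beq r r = true from Nat.beq_refl _] at q4
          exact absurd q4 (by decide)
        · exact q4
  have hQ2 : ∀ r, Q r → r < T.n := fun r h => (psi_pos hV h.1).2.2
  have hQcl : S.IsClosedRootSet Q := step_closed hV he0 hS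
  have hpd : PairData S Q p :=
    { pos := fun r h => ⟨(psi_pos hV h.1).1, (psi_pos hV h.1).2.1⟩
      closed := hQcl
      map := fun r h => (hQ r h).1
      invol := fun r h => (hQ r h).2.1
      linear := fun r s w hr hs hw a b h => lev_comb S (vec_wAct hV hLl
        (hV.linked.nroots ▸ hr) (hV.linked.nroots ▸ hs) (hV.linked.nroots ▸ hw) h) }
  have hNi : N⁻¹ = N := by rw [hN, ← S.nU_neg, CharTwo.neg_eq]
  have hN2 : N * N = 1 := by
    conv_lhs => arg 1; rw [← hNi]
    exact inv_mul_cancel N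
  have hNx : ∀ r, r < T.n → ∀ t : F, N * S.xU r t * N⁻¹ = S.xU (p r) t := fun r hr t => by
    rw [hNw]; exact nw_xU hV hLl hr t
  set z := wOne hV F st.roots with hzdef
  have hcz : ∀ r, psi T st.roots r = true → ∀ t : F, Commute (S.xU r t) z := fun r hr t =>
    wOne_commute hV fun s hs => commute_xU hV (psi_pos hV hr).2.2 (hS s hs) (hcm r hr s hs) t 1
  have hNz : Commute N z := by
    refine wOne_commute hV fun s hs => ?_
    have := hNx s (hS s hs) 1
    rw [show p s = s from Nat.eq_of_beq_eq_true (hfix s hs).1, mul_inv_eq_iff_eq_mul] at this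
    exact this
  -- scale the coefficient
  obtain ⟨a, ha⟩ : ∃ a : F, a ^ 2 = c⁻¹ := by
    have h2 : ringChar F = 2 := ringChar.eq F 2
    obtain ⟨a, ha⟩ := FiniteField.isSquare_of_char_two h2 c⁻¹
    exact ⟨a, by rw [sq, ← ha]⟩
  have ha0 : a ≠ 0 := fun e' => by
    rw [e', zero_pow (by decide)] at ha
    exact inv_ne_zero hc0 ha.symm
  set zc := hz D ρ (Units.mk0 a ha0) with hzc
  have hdiag : S.dg zc ∈ D.diagonalSubgroup F := S.dg_mem_diag hρ2 _
  have hchi : ∀ s ∈ st.roots, S.chi zc s = 1 := fun s hs => by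
    rw [hzc, S.chi_hz _ _ (lt_nroots hV (hS s hs)), ← prT_eq hV (hS s hs) hρn, (hfix s hs).2, zpow_zero]
  have hdz : Commute (S.dg zc) z := by
    refine wOne_commute hV fun s hs => ?_
    show S.dg zc * S.xU s 1 = S.xU s 1 * S.dg zc
    rw [S.dg_xU _ (lt_nroots hV (hS s hs)), hchi s hs, Units.val_one, one_mul]
  have hgd : S.dg zc ∈ D.group F := by
    rw [hzc, ← S.hU_eq_dg hρ2]; exact S.wU_mem_group _
  have hsc : CnjIn D z (S.xU ρ c * v) (S.xU ρ 1 * (S.dg zc * v * (S.dg zc)⁻¹)) := by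
    refine ⟨S.dg zc, hgd, hdz, ?_⟩
    rw [show S.dg zc * (S.xU ρ c * v) * (S.dg zc)⁻¹ =
      (S.dg zc * S.xU ρ c * (S.dg zc)⁻¹) * (S.dg zc * v * (S.dg zc)⁻¹) by group, S.dg_conj_xU _ hρ2]
    congr 2
    rw [hzc, S.chi_hz_self hρ2, zpow_ofNat, Units.val_pow_eq_pow_val, Units.val_mk0, ha,
      inv_mul_cancel₀ hc0]
  have hv1 : S.dg zc * v * (S.dg zc)⁻¹ ∈ S.genBy F Q := S.diag_conj_genBy _ hdiag hv
  set v1 := S.dg zc * v * (S.dg zc)⁻¹
  -- move to the reflection
  set K := S.xU ρ (1 : F) * N with hK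
  have hρz := hcz ρ hρ
  have hKz : Commute K z := (hρz 1).mul_left hNz
  have hKg : K ∈ D.group F := mul_mem (S.xU_mem_group _ _) (hNw ▸ nw_group hV L)
  have hx11 : S.xU ρ (1 : F) * S.xU ρ 1 = 1 := by
    rw [S.xU_add, CharTwo.add_self_eq_zero, S.xU_zero]
  have hK1 : K * S.xU ρ 1 * K⁻¹ = N := by
    rw [hK, _root_.mul_inv_rev, show ∀ x y z' : GL D.Idx F, x * N * y * (z' * x⁻¹) = x * (N * y * z') * x⁻¹
      from fun x y z' => by group, hNx ρ hρn, hpρ, ← neg_eq_negAt hV hρn, S.xU_inv, CharTwo.neg_eq, hN,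
      S.nU_eq, inv_one, CharTwo.neg_eq]
  have hv2 : K * v1 * K⁻¹ ∈ S.genBy F Q := by
    have hNQ : S.genBy F Q ≤ (S.genBy F Q).comap (MulAut.conj N).toMonoidHom :=
      S.genBy_le fun r h1 h2 h3 t => by
        show N * S.xU r t * N⁻¹ ∈ S.genBy F Q
        rw [hNx r (hQ2 r h3)]
        obtain ⟨q1, q2⟩ := hpd.pos _ (hQ r h3).1
        exact S.xU_mem_genBy q1 q2 (hQ r h3).1 t
    have := conj_genBy S (P := Q) hρ1 hρ2 (fun h => h.2 rfl) (fun s w hs1 hs2 hsQ hw1 hw2 hw => by
      obtain ⟨a', b', ha', hb'', h⟩ := hw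
      refine ⟨psi_closed.{u} hV hS ρ s w hρ1 hρ2 hs1 hs2 hw1 hw2 hρ hsQ.1 ⟨a', b', ha', hb'', h⟩, ?_⟩
      intro e'
      subst e'
      have e3 := lev_comb S h
      have c1 := S.lev_pos hs2 hs1
      have c2 := S.lev_pos hw2 hw1
      nlinarith) 1 (hNQ hv1)
    simpa [hK, mul_assoc] using this
  set v2 := K * v1 * K⁻¹
  have hsK : CnjIn D z (S.xU ρ 1 * v1) (N * v2) :=
    ⟨K, hKg, hKz, by
      show K * (S.xU ρ 1 * v1) * K⁻¹ = N * (K * v1 * K⁻¹)
      rw [← hK1]; group⟩
  have hall' := hsc.trans hsK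
  obtain ⟨f, hf, hc3⟩ := pairs_descend S hpd (N := N) (z := z) hN2
    (fun r hr => hNx r (hQ2 r hr)) (fun r hr => hcz r hr.1) 0 v2
    (S.genBy_mono (fun _ _ _ h => ⟨h, Or.inr (Nat.zero_le _)⟩) hv2) (hall'.sq hsq)
  have hfρ : Commute (S.xU ρ (1 : F)) f := by
    have : S.genBy F (fun r => Q r ∧ p r = r) ≤ Subgroup.centralizer {S.xU ρ (1 : F)} :=
      S.genBy_le fun r h1 h2 h3 t => Subgroup.mem_centralizer_singleton_iff.2
        (commute_xU hV hρn (hQ2 r h3.1) ((hQ r h3.1).2.2 h3.2).1 1 t).symm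
    exact (Subgroup.mem_centralizer_singleton_iff.1 (this hf)).symm
  have hfN : Commute N f := by
    have : S.genBy F (fun r => Q r ∧ p r = r) ≤ Subgroup.centralizer {N} :=
      S.genBy_le fun r h1 h2 h3 t => Subgroup.mem_centralizer_singleton_iff.2 (by
        have := hNx r (hQ2 r h3.1) t
        rw [h3.2, mul_inv_eq_iff_eq_mul] at this
        exact this.symm)
    exact (Subgroup.mem_centralizer_singleton_iff.1 (this hf)).symm
  have hback : CnjIn D z (N * f) (S.xU ρ 1 * f) := by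
    refine ⟨K⁻¹, inv_mem hKg, hKz.inv_left, ?_⟩
    have hKf : Commute K⁻¹ f := (hfρ.mul_left hfN).inv_left
    rw [inv_inv, show K⁻¹ * (N * f) * K = K⁻¹ * N * (f * K) by group,
      show f * K = K * f from (hfρ.mul_left hfN).eq.symm, ← hK1]
    group
  have htot := (hall'.trans hc3).trans hback
  have hsq' : (S.xU ρ 1 * f) * (S.xU ρ 1 * f) = 1 := htot.sq hsq
  rw [show ∀ a P : GL D.Idx F, a * P * (a * P) = a * (P * a) * P from fun a P => by group,
    ← hfρ.eq, show ∀ a P : GL D.Idx F, a * (a * P) * P = a * a * (P * P) from fun a P => by group,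
    hx11, one_mul] at hsq'
  obtain ⟨h, hh, hhz, hhe⟩ := htot
  set W := S.nw F e.move with hW
  refine ⟨W * f * W⁻¹, ?_, ?_, Nat.le_of_ble_eq_true hlt, Nat.le_of_ble_eq_true hlen,
    W * h, mul_mem (nw_group hV _) hh, ?_⟩
  · have : S.genBy F (fun r => Q r ∧ p r = r) ≤
        (S.genBy F (fun r => psi T nx.roots r = true)).comap (MulAut.conj W).toMonoidHom :=
      S.genBy_le fun r h1 h2 h3 t => by
        show W * S.xU r t * W⁻¹ ∈ S.genBy F (fun r => psi T nx.roots r = true)
        rw [hW, nw_xU hV hm' (hQ2 r h3.1)]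
        have hnx := ((hQ r h3.1).2.2 h3.2).2
        exact S.xU_mem_genBy (psi_pos hV hnx).1 (psi_pos hV hnx).2.1 hnx t
    exact this hf
  · rw [show W * f * W⁻¹ * (W * f * W⁻¹) = W * (f * f) * W⁻¹ by group, hsq']
    group
  · have e1 : wOne hV F nx.roots = W * (z * S.xU ρ 1) * W⁻¹ := by
      rw [← wOne_perm hV hcc (List.isPerm_iff.1 hperm), ← nw_wOne hV hm', wOne_append, wOne_cons,
        wOne_nil, mul_one]
      intro r hr
      rcases List.mem_append.1 hr with h' | h'
      · exact hS r h'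
      · rw [List.mem_singleton.1 h']; exact hρn
    rw [e1, show W * h * (z * (S.xU ρ c * v)) * (W * h)⁻¹ =
      W * ((h * z * h⁻¹) * (h * (S.xU ρ c * v) * h⁻¹)) * W⁻¹ by group, hhe, hhz.eq]
    group

/-- The coordinates in the subgroup orthogonal to a state reach a fundamental root. -/
theorem descend_simple [Finite F] {sts : List State} {i : ℕ} (hi : stateOK T sts i = true)
    (hs : ∀ e ∈ (sts.getD i ⟨[], []⟩).steps, stepOK T sts i (sts.getD i ⟨[], []⟩) e = true)
    {f : GL D.Idx F}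
    (hf : f ∈ (Tbl.Valid.toSys.{u} hV).genBy F (fun r => psi T (sts.getD i ⟨[], []⟩).roots r = true))
    (h1 : f ≠ 1) :
    ∃ e ∈ (sts.getD i ⟨[], []⟩).steps, ∃ c : F, c ≠ 0 ∧
      ∃ v ∈ (Tbl.Valid.toSys.{u} hV).genBy F
        (fun r => psi T (sts.getD i ⟨[], []⟩).roots r = true ∧ r ≠ e.root),
      CnjIn D (wOne hV F (sts.getD i ⟨[], []⟩).roots) f ((Tbl.Valid.toSys.{u} hV).xU e.root c * v) := by
  classical
  set S := Tbl.Valid.toSys.{u} hV
  set st := sts.getD i ⟨[], []⟩ with hst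
  simp only [stateOK, allComm, Bool.and_eq_true, List.all_eq_true, List.mem_range, Bool.or_eq_true,
    Bool.not_eq_true', List.any_eq_true] at hi
  obtain ⟨⟨hS', -⟩, hall⟩ := hi
  have hS : ∀ s ∈ st.roots, s < T.n := fun s hs' => Nat.le_of_ble_eq_true (hS' s hs').1
  let P : ℕ → Prop := fun r => psi T st.roots r = true
  have hP : S.IsClosedRootSet P := psi_closed.{u} hV hS
  obtain ⟨t, ht, rfl⟩ := exists_coords S hP hf
  have hex : ∃ r, t r ≠ 0 := by
    by_contra hcon
    push Not at hcon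
    refine h1 ?_
    rw [Sys.prodFrom, Sys.wU]
    refine List.prod_eq_one fun x hx => ?_
    simp only [List.map_map, List.mem_map, Function.comp_apply] at hx
    obtain ⟨r, -, rfl⟩ := hx
    rw [hcon r, S.xU_zero]
  induction hr0 : Nat.find hex using Nat.strong_induction_on generalizing t with
  | _ r0 ih =>
  subst hr0
  set r0 := Nat.find hex with hr0def
  have hr0 : t r0 ≠ 0 := Nat.find_spec hex
  have hmin : ∀ r, r < r0 → t r = 0 := fun r hr => by
    by_contra h; exact Nat.find_min hex hr h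
  have hr0P : P r0 ∧ D.nroots / 2 ≤ r0 ∧ r0 < D.nroots := by
    by_contra h; exact hr0 (ht r0 h)
  have hr0n : r0 < T.n := (psi_pos hV hr0P.1).2.2
  -- split at a step
  have hsplit : ∀ e ∈ st.steps, ∃ c : F, ∃ v ∈ S.genBy F (fun r => P r ∧ r ≠ e.root),
      S.prodFrom t (D.nroots / 2) = S.xU e.root c * v := by
    intro e he
    have h := hs e he
    simp only [stepOK, Bool.and_eq_true] at h
    obtain ⟨q1, q2, -⟩ := psi_pos hV h.1.1.1.1.1.2
    refine exists_split S q1 q2 (fun h => h.2 rfl) (fun r _ _ h' => ?_) (fun s w hs1 hs2 hsQ hw1 hw2 hw => ?_) hf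
    · by_cases e' : r = e.root
      · exact Or.inl e'
      · exact Or.inr ⟨h', e'⟩
    · obtain ⟨a', b', ha', hb', hh⟩ := hw
      refine ⟨hP e.root s w q1 q2 hs1 hs2 hw1 hw2 h.1.1.1.1.1.2 hsQ.1 ⟨a', b', ha', hb', hh⟩, ?_⟩
      intro e'
      subst e'
      have e3 := lev_comb S hh
      have c1 := S.lev_pos hs2 hs1
      have c2 := S.lev_pos hw2 hw1
      nlinarith
  by_cases hgood : ∃ e ∈ st.steps, ∃ c : F, c ≠ 0 ∧ ∃ v ∈ S.genBy F (fun r => P r ∧ r ≠ e.root),
      S.prodFrom t (D.nroots / 2) = S.xU e.root c * v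
  · obtain ⟨e, he, c, hc, v, hv, he'⟩ := hgood
    exact ⟨e, he, c, hc, v, hv, he' ▸ CnjIn.refl _ _⟩
  push Not at hgood
  have hin : ∀ e ∈ st.steps, S.prodFrom t (D.nroots / 2) ∈ S.genBy F (fun r => P r ∧ r ≠ e.root) := by
    intro e he
    obtain ⟨c, v, hv, he'⟩ := hsplit e he
    by_cases hc : c = 0
    · rw [he', hc, S.xU_zero, one_mul]; exact hv
    · exact absurd he' (hgood e he c hc v hv)
  rcases hall r0 hr0n with h | h
  · exact absurd ((hr0P.1).symm.trans h) (by decide)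
  obtain ⟨hcm, h | ⟨e, he, h⟩⟩ := h
  · obtain ⟨e, he, hre⟩ := h
    have hre' := Nat.eq_of_beq_eq_true hre
    have hne : ¬ (P r0 ∧ r0 ≠ e.root) := fun h => h.2 hre'
    obtain ⟨t', ht', he'⟩ := exists_coords S (step_closed hV (hs e he) hS) (hin e he)
    have := S.prodFrom_inj le_rfl he' r0 hr0P.2.1 hr0P.2.2
    rw [ht' r0 fun h => hne h.1] at this
    exact absurd this hr0
  · -- the reflection lowers the least index
    have hlow : wAct T e.refl r0 < r0 := Nat.le_of_ble_eq_true h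
    have hst' := hs e he
    simp only [stepOK, Bool.and_eq_true, List.all_eq_true, List.mem_range, Bool.or_eq_true,
      Bool.not_eq_true', decide_eq_true_eq] at hst'
    obtain ⟨⟨⟨⟨⟨⟨⟨⟨⟨⟨hp, hb⟩, -⟩, -⟩, -⟩, hρ⟩, hpath⟩, hneg⟩, hfix⟩, -⟩, hps⟩ := hst'
    have hL : ∀ q ∈ e.refl, q < T.l := by
      intro q hq
      simp only [Step.refl, List.mem_append, List.mem_singleton, List.mem_reverse] at hq
      rcases hq with (hq | rfl) | hq
      exacts [Nat.le_of_ble_eq_true (hp q hq), Nat.le_of_ble_eq_true hb, Nat.le_of_ble_eq_true (hp q hq)]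
    have hQm : ∀ r, P r ∧ r ≠ e.root → (P (wAct T e.refl r) ∧ wAct T e.refl r ≠ e.root) ∧
        wAct T e.refl (wAct T e.refl r) = r := by
      rintro r ⟨q1, q2⟩
      rcases hps r (psi_pos hV q1).2.2 with (k | k) | k
      · exact absurd (q1.symm.trans k) (by decide)
      · exact absurd (Nat.eq_of_beq_eq_true k) q2
      · refine ⟨⟨k.1.1.1, fun e' => ?_⟩, Nat.eq_of_beq_eq_true k.1.2⟩
        have := k.1.1.2
        rw [e', show Nat.beq e.root e.root = true from Nat.beq_refl _] at this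
        exact absurd this (by decide)
    set N := S.nw F e.refl with hN
    have hNx : ∀ r, r < T.n → ∀ x : F, N * S.xU r x * N⁻¹ = S.xU (wAct T e.refl r) x := fun r hr x =>
      nw_xU hV hL hr x
    have hNz : Commute N (wOne hV F st.roots) := by
      refine wOne_commute hV fun s hs' => ?_
      have := hNx s (hS s hs') 1
      rw [Nat.eq_of_beq_eq_true (hfix s hs').1, mul_inv_eq_iff_eq_mul] at this
      exact this
    have hmap : N * S.prodFrom t (D.nroots / 2) * N⁻¹ ∈ S.genBy F (fun r => P r ∧ r ≠ e.root) := by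
      have : S.genBy F (fun r => P r ∧ r ≠ e.root) ≤
          (S.genBy F (fun r => P r ∧ r ≠ e.root)).comap (MulAut.conj N).toMonoidHom :=
        S.genBy_le fun r a1 a2 a3 x => by
          show N * S.xU r x * N⁻¹ ∈ S.genBy F (fun r => P r ∧ r ≠ e.root)
          rw [hNx r (psi_pos hV a3.1).2.2]
          exact S.xU_mem_genBy (psi_pos hV (hQm r a3).1.1).1 (psi_pos hV (hQm r a3).1.1).2.1 (hQm r a3).1 x
      exact this (hin e he)
    have hmap' : N * S.prodFrom t (D.nroots / 2) * N⁻¹ ∈ S.genBy F P :=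
      S.genBy_mono (fun _ _ _ h => h.1) hmap
    obtain ⟨t', ht', he'⟩ := exists_coords S hP hmap'
    have hne : N * S.prodFrom t (D.nroots / 2) * N⁻¹ ≠ 1 := fun e' => h1 (conj_eq_one_iff.1 e')
    have hex' : ∃ r, t' r ≠ 0 := by
      by_contra hcon
      push Not at hcon
      refine hne ?_
      rw [he', Sys.prodFrom, Sys.wU]
      refine List.prod_eq_one fun x hx => ?_
      simp only [List.map_map, List.mem_map, Function.comp_apply] at hx
      obtain ⟨r, -, rfl⟩ := hx
      rw [hcon r, S.xU_zero]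
    have hlt : Nat.find hex' < r0 := by
      by_contra hge
      push Not at hge
      let Pk : ℕ → Prop := fun r => P r ∧ r0 ≤ r
      have hmem : N * S.prodFrom t (D.nroots / 2) * N⁻¹ ∈ S.genBy F Pk := by
        rw [he', Sys.prodFrom, Sys.wU]
        refine Subgroup.list_prod_mem _ fun x hx => ?_
        simp only [List.map_map, List.mem_map, List.mem_range'_1, Function.comp_apply] at hx
        obtain ⟨r, hr, rfl⟩ := hx
        by_cases h0 : t' r = 0
        · rw [h0, S.xU_zero]; exact one_mem _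
        · have hPr : P r := by
            by_contra hP'
            exact h0 (ht' r fun h => hP' h.1)
          exact S.xU_mem_genBy hr.1 (by omega) ⟨hPr, hge.trans (Nat.find_le h0)⟩ _
      let R : ℕ → Prop := fun r => P r ∧ r ≠ e.root ∧ r0 ≤ wAct T e.refl r
      have hR : S.prodFrom t (D.nroots / 2) ∈ S.genBy F R := by
        have hPk : S.IsClosedRootSet Pk := fun r s w hr hr2 hs' hs2 hw hw2 q1 q2 q3 =>
          ⟨hP r s w hr hr2 hs' hs2 hw hw2 q1.1 q2.1 q3, by
            obtain ⟨a', b', ha', hb', hh⟩ := q3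
            have e3 := lev_comb S hh
            have c1 := S.lev_pos hr2 hr
            have c2 := S.lev_pos hs2 hs'
            have : S.lev r < S.lev w := by nlinarith
            have := S.lt_of_lev hr2 this
            have := q1.2
            omega⟩
        have hcap : N * S.prodFrom t (D.nroots / 2) * N⁻¹ ∈
            S.genBy F (fun r => (P r ∧ r ≠ e.root) ∧ r0 ≤ r) :=
          S.genBy_mono (fun r _ _ h => ⟨h.1, h.2.2⟩)
            (S.genBy_inf_le (step_closed hV (hs e he) hS) hPk (Subgroup.mem_inf.2 ⟨hmap, hmem⟩))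
        have : S.genBy F (fun r => (P r ∧ r ≠ e.root) ∧ r0 ≤ r) ≤
            (S.genBy F R).comap (MulAut.conj N⁻¹).toMonoidHom :=
          S.genBy_le fun r a1 a2 a3 x => by
            show N⁻¹ * S.xU r x * N⁻¹⁻¹ ∈ S.genBy F R
            have hi' := (hQm r a3.1)
            have e6 := hNx _ (psi_pos hV hi'.1.1).2.2 x
            rw [hi'.2] at e6
            rw [← e6, show N⁻¹ * (N * S.xU (wAct T e.refl r) x * N⁻¹) * N⁻¹⁻¹ = S.xU (wAct T e.refl r) x by group]
            exact S.xU_mem_genBy (psi_pos hV hi'.1.1).1 (psi_pos hV hi'.1.1).2.1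
              ⟨hi'.1.1, hi'.1.2, by rw [hi'.2]; exact a3.2⟩ x
        have := this hcap
        simpa [mul_assoc] using this
      have hRcl : S.IsClosedRootSet R := fun a b w q1 q2 q3 q4 q5 q6 q7 q8 q9 => by
        obtain ⟨a', b', ha', hb', hh⟩ := q9
        have hn := hV.linked.nroots
        have e3 := lev_comb S (vec_wAct hV hL (r := a) (s := b) (v := w) (hn ▸ q2) (hn ▸ q4) (hn ▸ q6) hh)
        obtain ⟨m1, -⟩ := hQm a ⟨q7.1, q7.2.1⟩
        obtain ⟨m2, -⟩ := hQm b ⟨q8.1, q8.2.1⟩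
        obtain ⟨a1, a2, -⟩ := psi_pos hV m1.1
        obtain ⟨b1, b2, -⟩ := psi_pos hV m2.1
        have c1 := S.lev_pos a2 a1
        have c2 := S.lev_pos b2 b1
        have hlt' : S.lev (wAct T e.refl a) < S.lev (wAct T e.refl w) := by nlinarith
        refine ⟨hP a b w q1 q2 q3 q4 q5 q6 q7.1 q8.1 ⟨a', b', ha', hb', hh⟩, ?_, ?_⟩
        · intro e'
          rw [e', Nat.eq_of_beq_eq_true hneg, ← neg_eq_negAt hV (psi_pos hV hρ).2.2,
            S.lev_neg (psi_pos hV hρ).2.1] at hlt'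
          have := S.lev_pos (psi_pos hV hρ).2.1 (psi_pos hV hρ).1
          omega
        · have := S.lt_of_lev a2 hlt'
          have := q7.2.2
          omega
      obtain ⟨t2, ht2, he2⟩ := exists_coords S hRcl hR
      have := S.prodFrom_inj le_rfl he2 r0 hr0P.2.1 hr0P.2.2
      rw [ht2 r0 fun h => by have := h.1.2.2; omega] at this
      exact hr0 this
    obtain ⟨e2, he2, c, hc, v, hv, hcj⟩ := ih _ hlt t' ht' (he' ▸ hne) (he' ▸ hmap') hex' rfl
    refine ⟨e2, he2, c, hc, v, hv, CnjIn.trans ⟨N, nw_group hV _, hNz, he'⟩ hcj⟩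

/-- Every involution of the group is conjugate to the product over a state. -/
theorem exists_state [Finite F] {sts : List State} (hOK : normalOK T sts = true) {g : GL D.Idx F}
    (hg : g ∈ D.group F) (hsq : g * g = 1) (hg1 : g ≠ 1) :
    ∃ j, 0 < j ∧ j < sts.length ∧ ∃ h ∈ D.group F,
      h * g * h⁻¹ = wOne hV F (sts.getD j ⟨[], []⟩).roots := by
  classical
  set S := Tbl.Valid.toSys.{u} hV
  simp only [normalOK, Bool.and_eq_true, List.all_eq_true, List.mem_range, List.isEmpty_iff] at hOK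
  obtain ⟨⟨h0, hroot0⟩, hst⟩ := hOK
  have key : ∀ d i, sts.length - i = d → i < sts.length → ∀ f ∈ S.genBy F
      (fun r => psi T (sts.getD i ⟨[], []⟩).roots r = true), f * f = 1 →
      (i = 0 → f ≠ 1) →
      ∃ j, 0 < j ∧ j < sts.length ∧ ∃ h ∈ D.group F,
        h * (wOne hV F (sts.getD i ⟨[], []⟩).roots * f) * h⁻¹ =
          wOne hV F (sts.getD j ⟨[], []⟩).roots := by
    intro d
    induction d using Nat.strong_induction_on with
    | _ d ih =>
    intro i hd hi f hf hfsq hne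
    by_cases hf1 : f = 1
    · refine ⟨i, Nat.pos_of_ne_zero fun e => hne e hf1, hi, 1, one_mem _, ?_⟩
      simp [hf1]
    have hok := hst i hi
    have hsteps : ∀ e ∈ (sts.getD i ⟨[], []⟩).steps, stepOK T sts i (sts.getD i ⟨[], []⟩) e = true := by
      simp only [stateOK, Bool.and_eq_true, List.all_eq_true] at hok
      exact hok.1.2
    obtain ⟨e, he, c, hc, v, hv, hcj⟩ := descend_simple hV hok hsteps hf hf1
    have hok' := hok
    simp only [stateOK, allComm, Bool.and_eq_true, List.all_eq_true, List.mem_range, Bool.or_eq_true,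
      Bool.not_eq_true'] at hok'
    obtain ⟨⟨hroots, -⟩, hall⟩ := hok'
    have hS : ∀ s ∈ (sts.getD i ⟨[], []⟩).roots, s < T.n := fun s hs =>
      Nat.le_of_ble_eq_true (hroots s hs).1
    have hcm : ∀ r, psi T (sts.getD i ⟨[], []⟩).roots r = true → ∀ s ∈ (sts.getD i ⟨[], []⟩).roots,
        commEven T r s = true := fun r hr s hs => by
      rcases hall r (psi_pos hV hr).2.2 with h | h
      · exact absurd (hr.symm.trans h) (by decide)
      · exact h.1 s hs
    have hnext : e.next < sts.length := by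
      have := hsteps e he
      simp only [stepOK, Bool.and_eq_true] at this
      exact Nat.le_of_ble_eq_true this.1.1.1.1.1.1.2
    have hcc : allComm T (sts.getD e.next ⟨[], []⟩).roots = true := by
      have := hst e.next hnext
      simp only [stateOK, Bool.and_eq_true] at this
      exact this.1.1
    obtain ⟨f', hf', hf'sq, hlt, -, h, hh, he'⟩ :=
      step_reduce hV (hsteps e he) hcm hS hc hv (hcj.sq hfsq) hcc
    obtain ⟨j, hj0, hjlt, h2, hh2, he2⟩ := ih (sts.length - e.next) (by omega) e.next rfl hnext f' hf'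
      hf'sq (fun e0 => by omega)
    obtain ⟨h1, hh1, hz1, he1⟩ := hcj
    refine ⟨j, hj0, hjlt, h2 * h * h1, mul_mem (mul_mem hh2 hh) hh1, ?_⟩
    rw [← he2, ← he', ← he1,
      show h2 * h * h1 * (wOne hV F (sts.getD i ⟨[], []⟩).roots * f) * (h2 * h * h1)⁻¹ =
        h2 * (h * ((h1 * wOne hV F (sts.getD i ⟨[], []⟩).roots * h1⁻¹) * (h1 * f * h1⁻¹)) * h⁻¹) * h2⁻¹
        by group, hz1.eq, mul_inv_cancel_right]
  obtain ⟨h, hh, hhU⟩ := exists_conj_pos hV hg hsq
  have hmem : h * g * h⁻¹ ∈ S.genBy F (fun r => psi T (sts.getD 0 ⟨[], []⟩).roots r = true) := by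
    have hle : D.posUnipotent F ≤ S.genBy F (fun r => psi T (sts.getD 0 ⟨[], []⟩).roots r = true) := by
      rw [S.posUnipotent_eq, Sys.tailU, Subgroup.closure_le]
      rintro x ⟨r, t, h1, h2, rfl⟩
      refine S.xU_mem_genBy h1 h2 ?_ t
      rw [hroot0, psi, List.all_nil, Bool.and_true, Bool.and_eq_true]
      exact ⟨Nat.ble_eq_true_of_le (half_eq hV ▸ h1), Nat.ble_eq_true_of_le (hV.linked.nroots ▸ h2 : r < T.n)⟩
    exact hle hhU
  have hsq' : h * g * h⁻¹ * (h * g * h⁻¹) = 1 := by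
    rw [show h * g * h⁻¹ * (h * g * h⁻¹) = h * (g * g) * h⁻¹ by group, hsq]; group
  obtain ⟨j, h1, h2, k, hk, hke⟩ := key _ 0 rfl (Nat.le_of_ble_eq_true h0) _ hmem hsq'
    (fun _ e => hg1 (conj_eq_one_iff.1 e))
  rw [hroot0, wOne_nil, one_mul] at hke
  exact ⟨j, h1, h2, k * h, mul_mem hk hh, by rw [← hke]; group⟩

end CfsgLib.Chev.CharTwoInvol
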